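import Cfsg.Agent.Lib.Small.GLTwoThree

/-!
# Further facts about `GL(2, 3)` checked by enumeration
-/

set_option autoImplicit false

namespace CfsgLib.Small.L33

open CfsgLib.Small.GL23

/-- The central involution. -/
def negOne : H := ⟨!![2, 0; 0, 2], !![2, 0; 0, 2], by decide, by decide⟩

/-- An element of order three. -/
def transv : H := ⟨!![1, 1; 0, 1], !![1, 2; 0, 1], by decide, by decide⟩

/-- A reflection inverting it. -/
def refl : H := ⟨!![1, 0; 0, 2], !![1, 0; 0, 2], by decide, by decide⟩

theorem basic_facts :
    transv ≠ 1 ∧ transv ^ 3 = 1 ∧ refl ≠ 1 ∧ refl * refl = 1 ∧ refl ≠ negOne ∧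
      refl * transv * refl⁻¹ = transv⁻¹ ∧ negOne * negOne = 1 := by
  decide +kernel

theorem count_centralizer : els.countP (fun g => g * transv = transv * g) = 6 := by decide +kernel

/-- The elements of order three form one class. -/
theorem three_conj : ∀ y ∈ els, y ≠ 1 → y * y * y = 1 →
    ∃ x ∈ els, x * transv = y * x := by decide +kernel

theorem exists_other : ∃ x ∈ els, x * transv ≠ transv * x ∧ x * transv ≠ transv * transv * x := by
  decide +kernel

/-- The involutions inverting the chosen element of order three. -/
theorem invert_conj : ∀ x ∈ els, x * x = 1 → x * transv * x = transv * transv →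
    ∃ k : Fin 3, transv ^ k.val * x = refl * transv ^ k.val ∨
      transv ^ k.val * x = negOne * refl * transv ^ k.val := by decide +kernel

/-- The involutions. -/
def invols : List H := els.filter fun a => a * a = 1

theorem three_invols : ∀ g ∈ els, ∃ a ∈ invols, ∃ b ∈ invols, ∃ c ∈ invols, g = a * b * c := by
  decide +kernel

end CfsgLib.Small.L33
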