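import Cfsg.Agent.Lib.Small.CentralizerGL23
import Cfsg.Agent.Lib.Small.L33.GLFacts

/-!
# Groups of order 5616 with an involution centralizer `GL(2, 3)`: elements of order three
-/

set_option autoImplicit false
set_option linter.style.haveILetI false
set_option linter.unusedSectionVars false

open Subgroup

namespace CfsgLib.Small.L33

open CfsgLib.Small.GL23 (H els mem_els)

variable {G : Type*} [Group G] [Finite G]

/-- What is used about the group, an involution `t`, an element `u` of order three centralizing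
it and a second involution `s`. -/
structure Base (G : Type*) [Group G] (t u s : G) : Prop where
  card : Nat.card G = 5616
  ot : orderOf t = 2
  ou : orderOf u = 3
  os : orderOf s = 2
  ne : s ≠ t
  cst : Commute s t
  cut : Commute u t
  inv : s * u * s⁻¹ = u⁻¹
  card_inf : Nat.card (centralizer ({u} : Set G) ⊓ centralizer ({t} : Set G) : Subgroup G) = 6
  classes : ∀ y : G, orderOf y = 3 → Commute y t → IsConj u y
  inverting : ∀ x : G, orderOf x = 2 → Commute x t → x * u * x⁻¹ = u⁻¹ →
    ∃ k : ℕ, u ^ k * x * (u ^ k)⁻¹ = s ∨ u ^ k * x * (u ^ k)⁻¹ = t * s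
  invol : ∀ w : G, orderOf w = 2 → IsConj t w
  cent : ∀ w : G, orderOf w = 2 → Nat.card (centralizer ({w} : Set G)) = 48

theorem exists_base.{v} {G : Type v} [Group G] [Fintype G] [IsSimpleGroup G] {t : G}
    (hG : Nat.card G = 5616) (ht : orderOf t = 2) (e : centralizer ({t} : Set G) ≃* H) :
    ∃ u s : G, Base G t u s := by
  classical
  have htN : t ∈ centralizer ({t} : Set G) := mem_centralizer_singleton_iff.2 rfl
  set C := centralizer ({t} : Set G) with hC
  have het : e ⟨t, htN⟩ = negOne := Units.ext (GL23.e_t ht e htN)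
  have het' : ((e.symm negOne : C) : G) = t := by rw [← het, e.symm_apply_apply]
  let ι : H →* G := C.subtype.comp e.symm.toMonoidHom
  have hι : Function.Injective ι := C.subtype_injective.comp e.symm.injective
  have hιt : ι negOne = t := het'
  have hcomm : ∀ a : H, Commute (ι a) t := fun a =>
    mem_centralizer_singleton_iff.1 (e.symm a).2
  have hsurj : ∀ g : G, Commute g t → ∃ a, ι a = g := fun g hg =>
    ⟨e ⟨g, mem_centralizer_singleton_iff.2 hg⟩, by simp [ι]⟩
  obtain ⟨hu1, hu3, hs1, hs2, hst, hinv, -⟩ := basic_facts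
  refine ⟨ι transv, ι refl, hG, ht, ?_, ?_, fun h => hst (hι (h.trans hιt.symm)), hcomm _,
    hcomm _, by rw [← map_inv, ← map_inv, ← map_mul, ← map_mul, hinv], ?_, fun y hy hyt => ?_,
    fun x hx hxt hxu => ?_, fun w hw => GL23.isConj_of_involution ht e hw, fun w hw => ?_⟩
  · haveI := Fact.mk Nat.prime_three
    exact orderOf_eq_prime (by rw [← map_pow, hu3, map_one])
      (fun h => hu1 (hι (h.trans (map_one ι).symm)))
  · exact orderOf_eq_prime (by rw [sq, ← map_mul, hs2, map_one])
      (fun h => hs1 (hι (h.trans (map_one ι).symm)))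
  · rw [← count_centralizer, List.countP_eq_length_filter,
      ← List.toFinset_card_of_nodup (GL23.nodup_els.filter _), ← Nat.card_eq_finsetCard]
    refine (Nat.card_congr (Equiv.ofBijective (fun a => (⟨ι a.1, ?_, ?_⟩ :
      (centralizer ({ι transv} : Set G) ⊓ centralizer ({t} : Set G) : Subgroup G))) ⟨?_, ?_⟩)).symm
    · have := a.2
      rw [List.mem_toFinset, List.mem_filter, decide_eq_true_eq] at this
      exact mem_centralizer_singleton_iff.2 (by rw [← map_mul, this.2, map_mul])
    · exact mem_centralizer_singleton_iff.2 (hcomm _)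
    · exact fun a b h => Subtype.ext (hι (Subtype.mk.inj h))
    · rintro ⟨g, hgu, hgt⟩
      obtain ⟨a, rfl⟩ := hsurj g (mem_centralizer_singleton_iff.1 hgt)
      refine ⟨⟨a, ?_⟩, rfl⟩
      rw [List.mem_toFinset, List.mem_filter, decide_eq_true_eq]
      exact ⟨mem_els a, hι (by rw [map_mul, map_mul]; exact mem_centralizer_singleton_iff.1 hgu)⟩
  · obtain ⟨a, rfl⟩ := hsurj y hyt
    rw [orderOf_injective ι hι] at hy
    obtain ⟨x, -, hx⟩ := three_conj a (mem_els a) (fun h => by rw [h, orderOf_one] at hy; omega)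
      (by have h := pow_orderOf_eq_one a; rw [hy] at h; rw [← sq, ← pow_succ]; exact h)
    exact isConj_iff.2 ⟨ι x, by
      rw [← map_inv, ← map_mul, ← map_mul, hx, mul_inv_cancel_right]⟩
  · obtain ⟨a, rfl⟩ := hsurj x hxt
    rw [orderOf_injective ι hι] at hx
    have ha : a * a = 1 := by have h := pow_orderOf_eq_one a; rw [hx, sq] at h; exact h
    have ha' : a * transv * a = transv * transv := by
      rw [← map_inv, ← map_inv, ← map_mul, ← map_mul] at hxu
      have h := hι hxu
      rw [inv_eq_of_mul_eq_one_right ha] at h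
      rw [h, inv_eq_iff_mul_eq_one, ← sq, ← pow_succ', hu3]
    obtain ⟨k, hk⟩ := invert_conj a (mem_els a) ha ha'
    refine ⟨k.val, hk.imp (fun h => ?_) (fun h => ?_)⟩
    · rw [← map_pow, ← map_inv, ← map_mul, ← map_mul, h, mul_inv_cancel_right]
    · rw [← map_pow, ← map_inv, ← map_mul, ← map_mul, h, mul_inv_cancel_right, map_mul, hιt]
  · rw [GL23.card_centralizer_conj (GL23.isConj_of_involution ht e hw)]
    exact GL23.card_N ht e

namespace Base

variable {t u s : G} (B : Base G t u s)

include B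

theorem tt : t * t = 1 := by rw [← sq, ← B.ot, pow_orderOf_eq_one]

theorem ss : s * s = 1 := by rw [← sq, ← B.os, pow_orderOf_eq_one]

theorem u3 : u ^ 3 = 1 := by rw [← B.ou, pow_orderOf_eq_one]

theorem order_ts : orderOf (t * s) = 2 := orderOf_eq_prime
  (by rw [B.cst.symm.mul_pow, sq, sq, B.tt, B.ss, one_mul])
  (fun h => B.ne ((inv_eq_of_mul_eq_one_right h).symm.trans (inv_eq_of_mul_eq_one_right B.tt)))

/-- An element of order three commuting with an involution is conjugate to `u`. -/
theorem conj_u {y w : G} (hy : orderOf y = 3) (hw : orderOf w = 2) (h : Commute y w) :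
    IsConj u y := by
  obtain ⟨c, rfl⟩ := isConj_iff.1 (B.invol w hw)
  refine (B.classes (c⁻¹ * y * c) ?_ ?_).trans (isConj_iff.2 ⟨c, by group⟩)
  · rw [show c⁻¹ * y * c = MulAut.conj c⁻¹ y by simp, MulEquiv.orderOf_eq, hy]
  · calc c⁻¹ * y * c * t = c⁻¹ * (y * (c * t * c⁻¹)) * c := by group
      _ = c⁻¹ * (c * t * c⁻¹ * y) * c := by rw [h.eq]
      _ = t * (c⁻¹ * y * c) := by group

theorem card_conj_u {y : G} (h : IsConj u y) :
    Nat.card (centralizer ({y} : Set G)) = Nat.card (centralizer ({u} : Set G)) := by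
  obtain ⟨c, rfl⟩ := isConj_iff.1 h
  refine (Nat.card_congr ((MulAut.conj c).toEquiv.subtypeEquiv fun g => ?_)).symm
  rw [mem_centralizer_singleton_iff, mem_centralizer_singleton_iff]
  show g * u = u * g ↔ c * g * c⁻¹ * (c * u * c⁻¹) = c * u * c⁻¹ * (c * g * c⁻¹)
  rw [show c * g * c⁻¹ * (c * u * c⁻¹) = c * (g * u) * c⁻¹ by group,
    show c * u * c⁻¹ * (c * g * c⁻¹) = c * (u * g) * c⁻¹ by group, mul_left_inj, mul_right_inj]

/-- Subgroups of three-power order meet involution centralizers in at most three elements. -/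
theorem card_inf_dvd {P : Subgroup G} (hP : Nat.card P ∣ 27) {w : G} (hw : orderOf w = 2) :
    Nat.card (P ⊓ centralizer ({w} : Set G) : Subgroup G) ∣ 3 := by
  have h1 := (card_dvd_of_le (inf_le_left : P ⊓ centralizer ({w} : Set G) ≤ P)).trans hP
  have h2 := card_dvd_of_le (inf_le_right : P ⊓ centralizer ({w} : Set G) ≤ _)
  rw [B.cent w hw] at h2
  exact Nat.dvd_gcd h1 h2

/-- The normalizer of a Sylow subgroup of order thirteen has order 39. -/
theorem card_normalizer_thirteen [IsSimpleGroup G] [Fact (Nat.Prime 13)] (P : Sylow 13 G) :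
    Nat.card (P : Subgroup G) = 13 ∧
      Nat.card (centralizer ((P : Subgroup G) : Set G)) = 13 ∧
      Nat.card (normalizer ((P : Subgroup G) : Set G)) = 39 := by
  have hn : ¬ IsMulCommutative G := not_isMulCommutative_of_card (by rw [B.card]; norm_num)
  have hP : Nat.card (P : Subgroup G) = 13 := by
    simpa using card_sylow_eq (p := 13) 1 432 (by rw [B.card]; rfl) (by norm_num) P
  obtain ⟨f, hf1, hfd, hce⟩ := exists_normalizer_centralizer hn P hP
  obtain ⟨c, hc⟩ := dvd_card_centralizer P hP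
  have hodd : c % 2 = 1 := by
    by_contra hev
    obtain ⟨⟨w, hwC⟩, hw⟩ := exists_prime_orderOf_dvd_card' (G := centralizer
      ((P : Subgroup G) : Set G)) 2 (by rw [hc]; exact (show 2 ∣ c by omega).mul_left 13)
    rw [orderOf_mk] at hw
    have hle : (P : Subgroup G) ≤ centralizer ({w} : Set G) := fun y hy =>
      mem_centralizer_singleton_iff.2 (mem_centralizer_iff.1 hwC y hy)
    have := card_dvd_of_le hle
    rw [hP, B.cent w hw] at this
    norm_num at this
  have hmul := card_normalizer_mul P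
  rw [← hce, hc, B.card] at hmul
  have hm : Nat.card (Sylow 13 G) % 13 = 1 := card_sylow_modEq_one 13 G
  have h1 := one_lt_card_sylow hn (p := 13) (by rw [B.card]; norm_num)
  have hd : Nat.card (Sylow 13 G) ∣ 432 :=
    card_sylow_dvd (p := 13) 1 432 (by rw [B.card]; rfl) (by norm_num)
  have key : ∀ i < 433, i ∣ 432 → i % 13 = 1 → i = 1 ∨ i = 27 ∨ i = 144 := by decide +kernel
  have hf12 : f ≤ 12 := Nat.le_of_dvd (by norm_num) hfd
  rcases key _ (Nat.lt_succ_of_le (Nat.le_of_dvd (by norm_num) hd)) hd hm with h | h | h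
  · omega
  · rw [h] at hmul
    interval_cases f <;> omega
  · rw [h] at hmul
    have hcf : c * f = 3 := by
      have h2 : c * f * (13 * 144) = 3 * (13 * 144) := by linarith
      exact Nat.eq_of_mul_eq_mul_right (by norm_num) h2
    have hc1 : c = 1 := by
      rcases (Nat.dvd_prime Nat.prime_three).1 ⟨f, hcf.symm⟩ with h' | h'
      · exact h'
      · subst h'; omega
    subst hc1
    refine ⟨hP, by rw [hc, mul_one], ?_⟩
    rw [← hce, hc]
    omega

theorem not_thirteen_dvd [IsSimpleGroup G] {y : G} (hy : orderOf y = 3) :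
    ¬ 13 ∣ Nat.card (centralizer ({y} : Set G)) := by
  intro h13
  haveI := Fact.mk (show Nat.Prime 13 by norm_num)
  obtain ⟨⟨x, hxC⟩, hx⟩ := exists_prime_orderOf_dvd_card'
    (G := centralizer ({y} : Set G)) 13 h13
  rw [orderOf_mk] at hx
  obtain ⟨P, hP⟩ := (IsPGroup.of_card (p := 13) (n := 1)
    (show Nat.card (zpowers x) = 13 ^ 1 by rw [Nat.card_zpowers, hx, pow_one])).exists_le_sylow
  obtain ⟨hP13, hC, -⟩ := B.card_normalizer_thirteen P
  have hPx : zpowers x = (P : Subgroup G) :=
    eq_of_le_of_card_ge hP (by rw [hP13, Nat.card_zpowers, hx])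
  have hyC : y ∈ centralizer ((P : Subgroup G) : Set G) := by
    rw [mem_centralizer_iff, ← hPx]
    intro g hg
    obtain ⟨k, rfl⟩ := mem_zpowers_iff.1 hg
    exact ((show Commute x y from mem_centralizer_singleton_iff.1 hxC).zpow_left k).eq
  have := orderOf_dvd_natCard _ hyC
  rw [hC, hy] at this
  norm_num at this

/-- The elements of three-power order in the centralizer of `u` form a subgroup of index two. -/
theorem exists_threePart [IsSimpleGroup G] : ∃ P : Subgroup G,
    (Nat.card P = 3 ∨ Nat.card P = 9 ∨ Nat.card P = 27) ∧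
    Nat.card (centralizer ({u} : Set G)) = 2 * Nat.card P ∧
    P ≤ centralizer ({u} : Set G) ∧
    ∀ y : G, y ∈ centralizer ({u} : Set G) → y ^ 27 = 1 → y ∈ P := by
  classical
  haveI := Fact.mk Nat.prime_two
  haveI := Fact.mk Nat.prime_three
  set C := centralizer ({u} : Set G) with hC
  have htC : t ∈ C := mem_centralizer_singleton_iff.2 B.cut.symm.eq
  have huC : u ∈ C := mem_centralizer_singleton_iff.2 rfl
  have h2 : 2 ∣ Nat.card C := B.ot ▸ orderOf_dvd_natCard C htC
  have h3 : 3 ∣ Nat.card C := B.ou ▸ orderOf_dvd_natCard C huC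
  have h4 : ¬ 4 ∣ Nat.card C := by
    intro h4
    obtain ⟨T, hT⟩ := (IsPGroup.of_card (p := 2) (n := 1) (show Nat.card (zpowers (⟨t, htC⟩ : C)) =
      2 ^ 1 by rw [Nat.card_zpowers, orderOf_mk, B.ot, pow_one])).exists_le_sylow
    have hT4 : 4 ∣ Nat.card (T : Subgroup C) := by
      rw [T.card_eq_multiplicity]
      exact pow_dvd_pow 2 ((Nat.prime_two.pow_dvd_iff_le_factorization Nat.card_pos.ne').1
        (show 2 ^ 2 ∣ Nat.card C from h4))
    haveI : Nontrivial (T : Subgroup C) := Finite.one_lt_card_iff_nontrivial.1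
      (lt_of_lt_of_le (by norm_num) (Nat.le_of_dvd Nat.card_pos hT4))
    haveI := T.2.center_nontrivial
    obtain ⟨⟨z, hzc⟩, hz⟩ := exists_prime_orderOf_dvd_card' (G := center (T : Subgroup C)) 2 (by
      obtain ⟨n, hn, hc⟩ := ((T.2.to_subgroup _).nontrivial_iff_card).1 ‹_›
      rw [hc]
      exact dvd_pow_self 2 hn.ne')
    rw [orderOf_mk] at hz
    have hzcomm : ∀ y : (T : Subgroup C), Commute ((y : C) : G) ((z : C) : G) :=
      fun y => congrArg (fun a : (T : Subgroup C) => ((a : C) : G)) (mem_center_iff.1 hzc y)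
    set T' := (T : Subgroup C).map C.subtype with hT'
    set X := T' ⊓ centralizer ({t} : Set G) with hX
    have htT : t ∈ T' := ⟨⟨t, htC⟩, hT (mem_zpowers _), rfl⟩
    have hX2 : Nat.card X ∣ 2 := by
      have h6 := card_dvd_of_le (show X ≤ C ⊓ centralizer ({t} : Set G) from
        inf_le_inf_right _ (map_subtype_le _))
      rw [B.card_inf] at h6
      obtain ⟨n, hn⟩ := IsPGroup.iff_card.1 ((T.2.map C.subtype).to_le (inf_le_left : X ≤ T'))
      rw [hn] at h6 ⊢
      exact Nat.Coprime.dvd_of_dvd_mul_right (Nat.Coprime.pow_left n (by norm_num))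
        (show 2 ^ n ∣ 2 * 3 from h6)
    have hXt : zpowers t = X := eq_of_le_of_card_ge
      (zpowers_le.2 ⟨htT, mem_centralizer_singleton_iff.2 rfl⟩)
      (by rw [Nat.card_zpowers, B.ot]; exact Nat.le_of_dvd (by norm_num) hX2)
    have hzX : ((z : C) : G) ∈ X := ⟨⟨(z : C), z.2, rfl⟩,
      mem_centralizer_singleton_iff.2 (hzcomm ⟨⟨t, htC⟩, hT (mem_zpowers _)⟩).symm.eq⟩
    rw [← hXt] at hzX
    have hzt : ((z : C) : G) = t := by
      obtain ⟨k, hk⟩ := mem_zpowers_iff.1 hzX
      rw [← hk, ← zpow_mod_orderOf t k, B.ot]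
      rcases Int.emod_two_eq_zero_or_one k with h | h
      · exfalso
        rw [← zpow_mod_orderOf t k, B.ot, show ((2 : ℕ) : ℤ) = 2 from rfl, h, zpow_zero] at hk
        rw [show z = 1 from Subtype.ext (Subtype.ext hk.symm), orderOf_one] at hz
        omega
      · rw [show ((2 : ℕ) : ℤ) = 2 from rfl, h, zpow_one]
    have hd := card_dvd_of_le (show T' ≤ C ⊓ centralizer ({t} : Set G) by
      rintro _ ⟨y, hy, rfl⟩
      refine ⟨y.2, mem_centralizer_singleton_iff.2 ?_⟩
      rw [← hzt]
      exact (hzcomm ⟨y, hy⟩).eq)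
    rw [hT', card_map_of_injective C.subtype_injective, B.card_inf] at hd
    have := hT4.trans hd
    norm_num at this
  have hm : Nat.card C ∣ 27 * 208 := by
    have h := card_subgroup_dvd_card C
    rwa [B.card] at h
  obtain ⟨m, hm2⟩ := h2
  have hm27 : m ∣ 27 := by
    have hodd : ¬ 2 ∣ m := fun h => h4 (by rw [hm2]; exact Nat.mul_dvd_mul_left 2 h)
    have h13 : ¬ 13 ∣ m := fun h => B.not_thirteen_dvd B.ou (by rw [← hC, hm2]; exact h.mul_left 2)
    have hcop : Nat.Coprime m 208 := by
      rw [show (208 : ℕ) = 2 ^ 4 * 13 by norm_num]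
      exact Nat.Coprime.mul_right
        (((Nat.prime_two.coprime_iff_not_dvd).2 hodd).symm.pow_right 4)
        (((show Nat.Prime 13 by norm_num).coprime_iff_not_dvd).2 h13).symm
    exact hcop.dvd_of_dvd_mul_right
      ((Dvd.intro_left 2 hm2.symm).trans hm)
  obtain ⟨R⟩ := (inferInstance : Nonempty (Sylow 3 C))
  have hmk : ∃ k ≤ 3, m = 3 ^ k := (Nat.dvd_prime_pow Nat.prime_three).1
    (show m ∣ 3 ^ 3 from hm27)
  obtain ⟨k, hk3, rfl⟩ := hmk
  have hR : Nat.card (R : Subgroup C) = 3 ^ k := by
    rw [R.card_eq_multiplicity, hm2, Nat.factorization_mul (by norm_num) (by positivity),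
      Nat.factorization_pow]
    simp [Nat.factorization_eq_zero_of_not_dvd (show ¬ 3 ∣ 2 by norm_num),
      Nat.Prime.factorization_self Nat.prime_three]
  have hidx : (R : Subgroup C).index = 2 := by
    have := (R : Subgroup C).card_mul_index
    rw [hR, hm2, mul_comm 2] at this
    exact Nat.eq_of_mul_eq_mul_left (by positivity) this
  refine ⟨(R : Subgroup C).map C.subtype, ?_, ?_, map_subtype_le _, fun y hy h27 => ?_⟩
  · rw [card_map_of_injective C.subtype_injective, hR]
    have : k ≠ 0 := by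
      rintro rfl
      rw [hm2] at h3
      norm_num at h3
    interval_cases k <;> simp_all
  · rw [card_map_of_injective C.subtype_injective, hR, hm2]
  · refine ⟨⟨y, hy⟩, ?_, rfl⟩
    have h := sq_mem_of_index_two hidx (⟨y, hy⟩ : C)
    have hy' : (⟨y, hy⟩ : C) = ((⟨y, hy⟩ : C) ^ 2) ^ 14 := by
      rw [← pow_mul, show 2 * 14 = 27 + 1 from rfl, pow_succ,
        show (⟨y, hy⟩ : C) ^ 27 = 1 from Subtype.ext h27, one_mul]
    rw [hy']
    exact pow_mem h 14

end Base

end CfsgLib.Small.L33
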