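import Mathlib
import Cfsg.Agent.Lib.Small.L33.GLFacts
import Cfsg.Agent.Lib.Small.Q8Extension
import Cfsg.Agent.Lib.PGroups.UniqueOrderP

/-!
# Recognition of `GL(2, 3)` by its commuting relation and its involutions
-/

set_option autoImplicit false

namespace CfsgLib.Small.L33

open Subgroup CfsgLib.Small.GL23

theorem count_values : ∀ g ∈ els,
    ((els.countP fun h => h * g = g * h) = 48 → g = 1 ∨ g = negOne) ∧
    ((els.countP fun h => h * g = g * h) = 4 → g * g = 1) ∧
    ((els.countP fun h => h * g = g * h) ∈ [48, 8, 6, 4]) := by decide +kernel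

theorem exists_count_four : ∃ g ∈ els, (els.countP fun h => h * g = g * h) = 4 := by decide +kernel

theorem negOne_central : ∀ g ∈ els, g * negOne = negOne * g := by decide +kernel

theorem negOne_ne : negOne ≠ 1 := by decide +kernel

theorem card_commutes (g : H) :
    Nat.card {h : H // h * g = g * h} = els.countP fun h => h * g = g * h := by
  classical
  rw [Nat.card_eq_fintype_card, Fintype.card_subtype,
    show (Finset.univ : Finset H) = els.toFinset from
      (Finset.eq_univ_of_forall fun a => List.mem_toFinset.2 (mem_els a)).symm,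
    show els.toFinset.filter (fun h => h * g = g * h) =
      (els.filter fun h => h * g = g * h).toFinset by ext; simp,
    List.toFinset_card_of_nodup (nodup_els.filter _), List.countP_eq_length_filter]

/-- The normal four-group of `S₄`. -/
def klein : Subgroup (Equiv.Perm (Fin 4)) where
  carrier := {σ | σ * σ = 1 ∧ (σ = 1 ∨ ∀ i, σ i ≠ i)}
  one_mem' := by simp
  mul_mem' := fun {a b} ha hb =>
    (show ∀ a b : Equiv.Perm (Fin 4), a * a = 1 ∧ (a = 1 ∨ ∀ i, a i ≠ i) →
      b * b = 1 ∧ (b = 1 ∨ ∀ i, b i ≠ i) → (a * b) * (a * b) = 1 ∧ (a * b = 1 ∨ ∀ i, (a * b) i ≠ i) by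
      decide +kernel) a b ha hb
  inv_mem' := fun {a} ha => by
    rw [Set.mem_ofPred_eq] at ha ⊢
    rwa [inv_eq_of_mul_eq_one_right ha.1]

theorem mem_klein {σ : Equiv.Perm (Fin 4)} :
    σ ∈ klein ↔ σ * σ = 1 ∧ (σ = 1 ∨ ∀ i, σ i ≠ i) := Iff.rfl

theorem card_klein : Nat.card klein = 4 := by
  have h : Nat.card {σ : Equiv.Perm (Fin 4) // σ * σ = 1 ∧ (σ = 1 ∨ ∀ i, σ i ≠ i)} = 4 := by
    rw [Nat.card_eq_fintype_card]; decide +kernel
  exact h

theorem klein_conj : ∀ σ τ : Equiv.Perm (Fin 4), τ * τ = 1 ∧ (τ = 1 ∨ ∀ i, τ i ≠ i) →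
    (σ * τ * σ⁻¹) * (σ * τ * σ⁻¹) = 1 ∧
      (σ * τ * σ⁻¹ = 1 ∨ ∀ i, (σ * τ * σ⁻¹) i ≠ i) := by decide +kernel

theorem klein_centralizer : ∀ σ : Equiv.Perm (Fin 4),
    (∀ τ : Equiv.Perm (Fin 4), τ * τ = 1 ∧ (τ = 1 ∨ ∀ i, τ i ≠ i) → σ * τ = τ * σ) →
      σ * σ = 1 ∧ (σ = 1 ∨ ∀ i, σ i ≠ i) := by decide +kernel

theorem klein_transitive : ∀ a b : Equiv.Perm (Fin 4),
    a * a = 1 ∧ (a = 1 ∨ ∀ i, a i ≠ i) → a ≠ 1 →
      b * b = 1 ∧ (b = 1 ∨ ∀ i, b i ≠ i) → b ≠ 1 →
        ∃ σ : Equiv.Perm (Fin 4), σ * a * σ⁻¹ = b := by decide +kernel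

/-- A group with the commuting relation of `GL(2, 3)` and corresponding involutions is `GL(2, 3)`. -/
theorem iso_GL23_of_commuting {K : Type*} [Group K] [Finite K] (φ : K ≃ H)
    (hφ : ∀ a b : K, a * b = b * a ↔ φ a * φ b = φ b * φ a) (h1 : φ 1 = 1)
    (hsq : ∀ k : K, φ k * φ k = 1 → k * k = 1) : Nonempty (K ≃* H) := by
  classical
  haveI := Fact.mk Nat.prime_three
  haveI := Fact.mk Nat.prime_two
  set v := φ.symm negOne with hv
  have hφv : φ v = negOne := φ.apply_symm_apply _
  have hK : Nat.card K = 48 := by rw [Nat.card_congr φ, Nat.card_eq_fintype_card, card_eq]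
  have hcard : ∀ k : K, Nat.card (centralizer ({k} : Set K)) =
      els.countP fun h => h * φ k = φ k * h := fun k => by
    rw [← card_commutes]
    exact Nat.card_congr (φ.subtypeEquiv fun x => by rw [mem_centralizer_singleton_iff, hφ])
  have hvals : ∀ k : K, Nat.card (centralizer ({k} : Set K)) ∈ [48, 8, 6, 4] := fun k => by
    rw [hcard]
    exact (count_values _ (mem_els _)).2.2
  have hfull : ∀ k : K, Nat.card (centralizer ({k} : Set K)) = 48 → k = 1 ∨ k = v := fun k hk => by
    rw [hcard] at hk
    exact ((count_values _ (mem_els _)).1 hk).imp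
      (fun h => φ.injective (h.trans h1.symm)) fun h => φ.injective (h.trans hφv.symm)
  have hvc : ∀ k : K, k * v = v * k := fun k =>
    (hφ k v).2 (by rw [hφv]; exact negOne_central _ (mem_els _))
  have hv1 : v ≠ 1 := fun h => negOne_ne (by rw [← hφv, h, h1])
  have hv2 : v * v = 1 := hsq v (by rw [hφv]; exact basic_facts.2.2.2.2.2.2)
  have hov : orderOf v = 2 := orderOf_eq_prime (by rw [sq, hv2]) hv1
  -- four Sylow 3-subgroups
  have hS3 : ∀ P : Sylow 3 K, Nat.card (P : Subgroup K) = 3 := fun P => by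
    rw [P.card_eq_multiplicity, hK, show (48 : ℕ) = 3 ^ 1 * 16 from rfl,
      Nat.factorization_mul (by norm_num) (by norm_num), Nat.Prime.factorization_pow Nat.prime_three]
    simp [show (16 : ℕ).factorization 3 = 0 from Nat.factorization_eq_zero_of_not_dvd (by norm_num)]
  have hC3 : ∀ y : K, orderOf y = 3 → Nat.card (centralizer ({y} : Set K)) = 6 := fun y hy => by
    have h3 : 3 ∣ Nat.card (centralizer ({y} : Set K)) :=
      hy ▸ Subgroup.orderOf_dvd_natCard _ (mem_centralizer_singleton_iff.2 rfl)
    have h := hvals y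
    simp only [List.mem_cons, List.not_mem_nil, or_false] at h
    rcases h with h | h | h | h
    · rcases hfull y h with rfl | rfl
      · simp at hy
      · omega
    all_goals omega
  obtain ⟨y, hy⟩ := exists_prime_orderOf_dvd_card' 3 (G := K) (by rw [hK]; norm_num)
  have hn : Nat.card (Sylow 3 K) = 4 := by
    obtain ⟨P⟩ : Nonempty (Sylow 3 K) := inferInstance
    have hd : Nat.card (Sylow 3 K) ∣ 16 := by
      have h := P.card_dvd_index
      have h2 := (P : Subgroup K).card_mul_index
      rw [hS3 P, hK] at h2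
      rwa [show (P : Subgroup K).index = 16 by omega] at h
    have hm : Nat.card (Sylow 3 K) % 3 = 1 := card_sylow_modEq_one 3 K
    have hcases : Nat.card (Sylow 3 K) = 1 ∨ Nat.card (Sylow 3 K) = 4 ∨
        Nat.card (Sylow 3 K) = 16 := by
      have hle := Nat.le_of_dvd (by norm_num) hd
      generalize Nat.card (Sylow 3 K) = n at hd hm hle ⊢
      interval_cases n <;> omega
    rcases hcases with h | h | h
    · exfalso
      obtain ⟨Q, hQ⟩ := (IsPGroup.of_card (p := 3) (n := 1)
        (by rw [Nat.card_zpowers, hy, pow_one]) : IsPGroup 3 (zpowers y)).exists_le_sylow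
      have hQy : (Q : Subgroup K) = zpowers y :=
        (eq_of_le_of_card_ge hQ (by rw [hS3, Nat.card_zpowers, hy])).symm
      haveI : Subsingleton (Sylow 3 K) := (Nat.card_eq_one_iff_unique.1 h).1
      haveI : (Q : Subgroup K).Normal := Q.normal_of_subsingleton
      have hsub : ∀ k : K, k * y * k⁻¹ ∈ ({y, y⁻¹} : Set K) := fun k => by
        have hm : k * y * k⁻¹ ∈ zpowers y := hQy ▸ (‹(Q : Subgroup K).Normal›.conj_mem y
          (hQy ▸ mem_zpowers y) k)
        rw [mem_zpowers_iff_mem_range_orderOf, hy] at hm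
        simp only [Finset.mem_image, Finset.mem_range] at hm
        obtain ⟨i, hi, hiy⟩ := hm
        interval_cases i
        · rw [pow_zero, eq_comm, conj_eq_one_iff] at hiy
          simp [hiy] at hy
        · exact Or.inl (by simpa using hiy.symm)
        · refine Or.inr ?_
          rw [← hiy]
          refine eq_inv_of_mul_eq_one_left ?_
          have h3 := pow_orderOf_eq_one y
          rw [hy] at h3
          rw [← pow_succ]
          exact h3
      have hC := hC3 y hy
      set C := centralizer ({y} : Set K) with hCdef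
      have hidx : C.index ≤ 2 := by
        rw [index_eq_card]
        refine (Nat.card_le_card_of_injective (fun q : K ⧸ C => (⟨q.out * y * q.out⁻¹, hsub _⟩ :
          ({y, y⁻¹} : Set K))) fun a b hab => ?_).trans ?_
        · have h := congrArg Subtype.val hab
          simp only at h
          refine (QuotientGroup.out_eq' a).symm.trans
            ((QuotientGroup.eq.2 ?_).trans (QuotientGroup.out_eq' b))
          refine mem_centralizer_singleton_iff.2 ?_
          calc a.out⁻¹ * b.out * y = a.out⁻¹ * (b.out * y * b.out⁻¹) * b.out := by group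
            _ = a.out⁻¹ * (a.out * y * a.out⁻¹) * b.out := by rw [h]
            _ = y * (a.out⁻¹ * b.out) := by group
        · rw [Nat.card_coe_set_eq]
          exact (Set.ncard_insert_le _ _).trans (by simp)
      have := C.card_mul_index
      rw [hC, hK] at this
      omega
    · exact h
    · exfalso
      have hN := (Sylow.card_eq_index_normalizer P).symm.trans h
      have h2 := (normalizer ((P : Subgroup K) : Set K)).card_mul_index
      have hN3 : Nat.card (normalizer ((P : Subgroup K) : Set K)) = 3 := by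
        change (normalizer ((P : Subgroup K) : Set K)).index = 16 at hN
        rw [hN, hK] at h2
        omega
      have hvN : v ∈ normalizer ((P : Subgroup K) : Set K) := by
        rw [mem_normalizer_iff]
        intro z
        rw [show v * z * v⁻¹ = z by rw [← hvc z, mul_inv_cancel_right]]
      have := hov ▸ Subgroup.orderOf_dvd_natCard _ hvN
      omega
  -- the map onto the symmetric group
  let ψ : K →* Equiv.Perm (Fin 4) :=
    ((Finite.equivFinOfCardEq hn).permCongrHom.toMonoidHom).comp
      (MulAction.toPermHom K (Sylow 3 K))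
  set M := ψ.ker with hM
  have hMfix : ∀ m ∈ M, ∀ P : Sylow 3 K, m • P = P := fun m hm P => by
    have h : MulAction.toPermHom K (Sylow 3 K) m = 1 :=
      (Finite.equivFinOfCardEq hn).permCongrHom.injective
        ((MonoidHom.mem_ker.1 hm).trans (map_one _).symm)
    exact DFunLike.congr_fun h P
  have hvM : v ∈ M := by
    rw [hM, MonoidHom.mem_ker]
    have h : MulAction.toPermHom K (Sylow 3 K) v = 1 := Equiv.ext fun P => by
      show v • P = P
      rw [Sylow.smul_eq_iff_mem_normalizer]
      show v ∈ normalizer ((P : Subgroup K) : Set K)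
      rw [mem_normalizer_iff]
      intro z
      rw [show v * z * v⁻¹ = z by rw [← hvc z, mul_inv_cancel_right]]
    show (Finite.equivFinOfCardEq hn).permCongrHom (MulAction.toPermHom K (Sylow 3 K) v) = 1
    rw [h, map_one]
  obtain ⟨P, hP⟩ := (IsPGroup.of_card (p := 3) (n := 1)
    (by rw [Nat.card_zpowers, hy, pow_one]) : IsPGroup 3 (zpowers y)).exists_le_sylow
  have hPy : (P : Subgroup K) = zpowers y :=
    (eq_of_le_of_card_ge hP (by rw [hS3, Nat.card_zpowers, hy])).symm
  have h3M : ¬ 3 ∣ Nat.card M := fun h => by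
    obtain ⟨z, hz⟩ := exists_prime_orderOf_dvd_card' 3 (G := M) h
    have hzo : orderOf (z : K) = 3 := by rwa [Subgroup.orderOf_coe]
    have hzP : ∀ Q : Sylow 3 K, (z : K) ∈ (Q : Subgroup K) := fun Q => by
      have hzN : (z : K) ∈ normalizer ((Q : Subgroup K) : Set K) :=
        Sylow.smul_eq_iff_mem_normalizer.1 (hMfix _ z.2 Q)
      have hle : zpowers (z : K) ≤ zpowers (z : K) ⊓ normalizer ((Q : Subgroup K) : Set K) :=
        le_inf le_rfl (zpowers_le.2 hzN)
      have hinf := IsPGroup.inf_normalizer_sylow (IsPGroup.of_card (p := 3) (n := 1)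
        (by rw [Nat.card_zpowers, hzo, pow_one]) : IsPGroup 3 (zpowers (z : K))) Q
      exact (le_inf_iff.1 (hle.trans hinf.le)).2 (mem_zpowers _)
    have heq : ∀ Q : Sylow 3 K, (Q : Subgroup K) = zpowers (z : K) := fun Q =>
      (eq_of_le_of_card_ge (zpowers_le.2 (hzP Q)) (by rw [hS3, Nat.card_zpowers, hzo])).symm
    haveI : Subsingleton (Sylow 3 K) := ⟨fun a b => Sylow.ext ((heq a).trans (heq b).symm)⟩
    have := Nat.card_unique (α := Sylow 3 K)
    omega
  have hMdvd : Nat.card M ∣ 12 := by
    have hle : M ≤ normalizer ((P : Subgroup K) : Set K) := fun m hm =>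
      Sylow.smul_eq_iff_mem_normalizer.1 (hMfix m hm P)
    have h := Subgroup.card_dvd_of_le hle
    have h2 := (normalizer ((P : Subgroup K) : Set K)).card_mul_index
    have hi := (Sylow.card_eq_index_normalizer P).symm.trans hn
    change (normalizer ((P : Subgroup K) : Set K)).index = 4 at hi
    rw [hi, hK] at h2
    rwa [show Nat.card (normalizer ((P : Subgroup K) : Set K)) = 12 by omega] at h
  have hM2 : Nat.card M = 2 := by
    have h2 : 2 ∣ Nat.card M := hov ▸ Subgroup.orderOf_dvd_natCard _ hvM
    have hle := Nat.le_of_dvd (by norm_num) hMdvd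
    have hcases : Nat.card M = 2 ∨ Nat.card M = 4 := by
      generalize Nat.card M = c at h2 h3M hMdvd hle ⊢
      interval_cases c <;> omega
    refine hcases.resolve_right fun h4 => ?_
    have hcomm : M ≤ centralizer ({y} : Set K) := fun m hm => by
      have hPN : (m * y * m⁻¹ * y⁻¹) ∈ (P : Subgroup K) := by
        have hmN := mem_normalizer_iff.1 (Sylow.smul_eq_iff_mem_normalizer.1 (hMfix m hm P)) y
        exact mul_mem (hmN.1 (hPy ▸ mem_zpowers y)) (inv_mem (hPy ▸ mem_zpowers y))
      have hMn : (m * y * m⁻¹ * y⁻¹) ∈ M := by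
        rw [show m * y * m⁻¹ * y⁻¹ = m * (y * m⁻¹ * y⁻¹) by group]
        exact mul_mem hm ((MonoidHom.normal_ker ψ).conj_mem _ (inv_mem hm) y)
      have hd : orderOf (m * y * m⁻¹ * y⁻¹) ∣ Nat.gcd 4 3 :=
        Nat.dvd_gcd (h4 ▸ Subgroup.orderOf_dvd_natCard _ hMn)
          (hS3 P ▸ Subgroup.orderOf_dvd_natCard _ hPN)
      rw [show Nat.gcd 4 3 = 1 from rfl, Nat.dvd_one, orderOf_eq_one_iff, mul_inv_eq_one,
        mul_inv_eq_iff_eq_mul] at hd
      exact mem_centralizer_singleton_iff.2 hd
    have := Subgroup.card_dvd_of_le hcomm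
    rw [h4, hC3 y hy] at this
    omega
  have hker : ∀ k : K, ψ k = 1 → k = 1 ∨ k = v := fun k hk => by
    have heq : zpowers v = M := eq_of_le_of_card_ge (zpowers_le.2 hvM)
      (by rw [hM2, Nat.card_zpowers, hov])
    have hm : k ∈ zpowers v := heq ▸ MonoidHom.mem_ker.2 hk
    rw [mem_zpowers_iff_mem_range_orderOf, hov] at hm
    simp only [Finset.mem_image, Finset.mem_range] at hm
    obtain ⟨i, hi, rfl⟩ := hm
    interval_cases i <;> simp
  have hψv : ψ v = 1 := MonoidHom.mem_ker.1 hvM
  have hψ : Function.Surjective ψ := by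
    have h := M.card_mul_index
    rw [hM2, hM, index_ker, hK] at h
    refine MonoidHom.range_eq_top.1 (eq_top_of_card_eq _ ?_)
    rw [Nat.card_perm, Nat.card_fin, show Nat.factorial 4 = 24 from rfl]
    omega
  set Q := klein.comap ψ with hQdef
  haveI : klein.Normal := ⟨fun τ hτ σ => klein_conj σ τ hτ⟩
  haveI hQn : Q.Normal := inferInstanceAs (klein.comap ψ).Normal
  have hQ8 : Nat.card Q = 8 := by
    have h1 := Q.card_mul_index
    have h2 := klein.card_mul_index
    rw [card_klein, Nat.card_perm, Nat.card_fin] at h2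
    simp [Nat.factorial] at h2
    rw [hQdef, index_comap_of_surjective _ hψ, hK, show klein.index = 6 by omega] at h1
    rw [hQdef]
    omega
  have hvQ : v ∈ Q := by
    show ψ v ∈ klein
    rw [hψv]
    exact one_mem _
  obtain ⟨g, -, hg⟩ := exists_count_four
  set x := φ.symm g with hx
  have hx4 : Nat.card (centralizer ({x} : Set K)) = 4 := by rw [hcard, hx, φ.apply_symm_apply, hg]
  have hxx : x * x = 1 := hsq x (by
    rw [hx, φ.apply_symm_apply]
    exact (count_values g (mem_els g)).2.1 hg)
  have huniq : ∀ q ∈ Q, q * q = 1 → q = 1 ∨ q = v := by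
    by_contra hcon
    push Not at hcon
    obtain ⟨q₀, hq₀Q, hq₀2, hq₀1, hq₀v⟩ := hcon
    have hψq : ψ q₀ ≠ 1 := fun h => (hker q₀ h).elim hq₀1 hq₀v
    have hexp : ∀ q ∈ Q, q * q = 1 := by
      intro q hq
      by_cases hq1 : ψ q = 1
      · rcases hker q hq1 with rfl | rfl
        · exact one_mul 1
        · exact hv2
      obtain ⟨σ, hσ⟩ := klein_transitive _ _ hq₀Q hψq hq hq1
      obtain ⟨k, rfl⟩ := hψ σ
      have hk : ψ ((k * q₀ * k⁻¹)⁻¹ * q) = 1 := by
        simp only [map_mul, map_inv, hσ, inv_mul_cancel]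
      have hkq : (k * q₀ * k⁻¹) * (k * q₀ * k⁻¹) = 1 := by
        rw [show k * q₀ * k⁻¹ * (k * q₀ * k⁻¹) = k * (q₀ * q₀) * k⁻¹ by group, hq₀2]
        group
      rcases hker _ hk with h | h
      · rw [inv_mul_eq_one] at h
        rw [← h, hkq]
      · rw [inv_mul_eq_iff_eq_mul] at h
        rw [h, Commute.mul_mul_mul_comm ((hvc _).symm : Commute v _), hkq, hv2, one_mul]
    have hinv : ∀ q ∈ Q, q⁻¹ = q := fun q hq => inv_eq_of_mul_eq_one_right (hexp q hq)
    have hab : ∀ a ∈ Q, ∀ b ∈ Q, a * b = b * a := fun a ha b hb => by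
      have h := hinv _ (mul_mem ha hb)
      rw [_root_.mul_inv_rev, hinv a ha, hinv b hb] at h
      exact h.symm
    have hxi : x⁻¹ = x := inv_eq_of_mul_eq_one_right hxx
    have hxQ : ∀ a ∈ Q, x * a * x ∈ Q := fun a ha => by
      have := hQn.conj_mem a ha x
      rwa [hxi] at this
    let f : Q →* Q := MonoidHom.mk' (fun a => ⟨a * (x * a * x), mul_mem a.2 (hxQ _ a.2)⟩) fun a b =>
      Subtype.ext (by
        show (a : K) * b * (x * (a * b) * x) = a * (x * a * x) * (b * (x * b * x))
        rw [show x * ((a : K) * b) * x = x * a * x * (x * b * x) by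
          simp only [mul_assoc]; rw [← mul_assoc x x, hxx, one_mul]]
        calc (a : K) * b * (x * a * x * (x * b * x))
            = a * (b * (x * a * x)) * (x * b * x) := by group
          _ = a * ((x * a * x) * b) * (x * b * x) := by rw [hab _ b.2 _ (hxQ _ a.2)]
          _ = _ := by group)
    have hff : f.range ≤ f.ker := by
      rintro _ ⟨a, rfl⟩
      rw [MonoidHom.mem_ker]
      refine Subtype.ext ?_
      show (a : K) * (x * a * x) * (x * (a * (x * a * x)) * x) = 1
      calc (a : K) * (x * a * x) * (x * (a * (x * a * x)) * x)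
          = a * x * a * (x * x) * a * x * a * (x * x) := by group
        _ = a * x * (a * a) * x * a := by rw [hxx]; group
        _ = a * (x * x) * a := by rw [hexp _ a.2]; group
        _ = 1 := by rw [hxx, mul_one, hexp _ a.2]
    have hkc : ∀ a ∈ f.ker, ((a : Q) : K) ∈ centralizer ({x} : Set K) := fun a ha => by
      have h := congrArg Subtype.val (MonoidHom.mem_ker.1 ha)
      change (a : K) * (x * a * x) = 1 at h
      have h' := eq_inv_of_mul_eq_one_right h
      rw [hinv _ a.2] at h'
      refine mem_centralizer_singleton_iff.2 ?_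
      calc (a : K) * x = x * a * x * x := by rw [h']
        _ = x * a := by rw [mul_assoc, hxx, mul_one]
    have hxnQ : x ∉ Q := fun hxm => by
      have hle : Q ≤ centralizer ({x} : Set K) := fun a ha =>
        mem_centralizer_singleton_iff.2 (hab a ha x hxm)
      have := Subgroup.card_dvd_of_le hle
      rw [hQ8, hx4] at this
      omega
    have hk3 : Nat.card f.ker ≤ 3 := by
      have hlt : f.ker.map Q.subtype < centralizer ({x} : Set K) := by
        refine lt_of_le_of_ne (map_le_iff_le_comap.2 hkc) fun h => ?_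
        have : x ∈ f.ker.map Q.subtype := h ▸ mem_centralizer_singleton_iff.2 rfl
        obtain ⟨⟨a, ha⟩, -, rfl⟩ := this
        exact hxnQ ha
      rw [← Subgroup.card_map_of_injective Q.subtype_injective]
      by_contra hgt
      exact hlt.ne (eq_of_le_of_card_ge hlt.le (by rw [hx4]; omega))
    have h := f.ker.card_mul_index
    rw [index_ker, hQ8] at h
    have hrk := Subgroup.card_le_of_le hff
    have hk0 : 0 < Nat.card f.ker := Nat.card_pos
    have hr0 : 0 < Nat.card f.range := Nat.card_pos
    generalize Nat.card f.ker = a at *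
    generalize Nat.card f.range = b at *
    interval_cases a <;> omega
  have hxQ : x ∉ Q := fun h => by
    rcases huniq x h hxx with h' | h'
    · rw [hcard, h', h1] at hx4
      revert hx4
      decide +kernel
    · rw [hcard, h', hφv] at hx4
      revert hx4
      decide +kernel
  obtain ⟨eQ⟩ : Nonempty (Q ≃* QuaternionGroup 2) := by
    rcases CfsgLib.PGroups.isCyclic_or_quaternion_of_unique (p := 2)
      (IsPGroup.of_card (n := 3) hQ8) (z := (⟨v, hvQ⟩ : Q)) (Subtype.ext (by rw [SubgroupClass.coe_pow, sq]; exact hv2))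
      (fun a ha => by
        rcases huniq a a.2 (by rw [← sq]; exact congrArg Subtype.val ha) with h | h
        · rw [show a = 1 from Subtype.ext h]; exact one_mem _
        · rw [show a = ⟨v, hvQ⟩ from Subtype.ext h]; exact mem_zpowers _) with hcyc | ⟨-, n, hn1, ⟨eq⟩⟩
    · exfalso
      obtain ⟨a, ha⟩ := IsCyclic.exists_ofOrder_eq_natCard (α := Q)
      rw [hQ8] at ha
      have hsq' : ψ (((a : Q) : K) * a) = 1 := by rw [map_mul]; exact a.2.1
      have h4 : ((a : K) * a) * (a * a) = 1 := by
        rcases hker _ hsq' with h | h <;> rw [h]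
        · exact one_mul 1
        · exact hv2
      have := orderOf_dvd_of_pow_eq_one (x := a) (n := 4) (Subtype.ext (by
        rw [SubgroupClass.coe_pow]
        calc (a : K) ^ 4 = (a : K) * a * (a * a) := by simp [pow_succ, mul_assoc]
          _ = 1 := h4))
      rw [ha] at this
      omega
    · have h := Nat.card_congr eq.toEquiv
      rw [hQ8, Nat.card_eq_fintype_card, QuaternionGroup.card] at h
      have h2 : n < 2 := by
        by_contra hlt
        have := Nat.pow_le_pow_right (show 0 < 2 by norm_num) (show 2 ≤ n by omega)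
        omega
      obtain rfl : n = 1 := by omega
      exact ⟨eq⟩
  have hCQ : centralizer (Q : Set K) ≤ Q := fun k hk => klein_centralizer (ψ k) fun τ hτ => by
    obtain ⟨q, rfl⟩ := hψ τ
    rw [← map_mul, ← map_mul, hk q hτ]
  obtain ⟨e₁⟩ := Q8Ext.nonempty_iso eQ hCQ hK (t₀ := x) (by rw [sq, hxx]) hxQ
  obtain ⟨e₂⟩ := Q8Ext.GLThree.iso_model
  exact ⟨e₁.trans e₂.symm⟩

end CfsgLib.Small.L33
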