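import Mathlib

/-!
# Thirteen points: permutation triples and matrices of degree three over three elements
-/

set_option autoImplicit false

namespace CfsgLib.Small.L33

/-- A map inverting `i ↦ 3 * i` by conjugation, from the images of 1, 2, 4 and 7. -/
def tab (a b c d : Fin 13) : Fin 13 → Fin 13 :=
  ![0, a, b, 9 * a, c, 3 * b, 9 * b, d, 9 * d, 3 * a, 3 * c, 3 * d, 9 * c]

def third : Fin 4 → Fin 13 → Fin 13 :=
  ![![0, 1, 5, 9, 4, 2, 6, 7, 11, 3, 12, 8, 10],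
    ![0, 1, 2, 9, 10, 6, 5, 11, 8, 3, 4, 7, 12],
    ![0, 1, 6, 9, 12, 5, 2, 11, 8, 3, 10, 7, 4],
    ![0, 1, 6, 9, 10, 5, 2, 8, 7, 3, 4, 11, 12]]

/-- The matrices inducing the three maps. -/
def mats : Fin 4 → Fin 3 → Matrix (Fin 3) (Fin 3) (ZMod 3) :=
  ![![!![0, 0, 1; 0, 1, 1; 2, 1, 1], !![1, 2, 1; 0, 1, 2; 0, 0, 1], !![2, 2, 0; 0, 1, 0; 0, 0, 2]],
    ![!![0, 0, 1; 0, 1, 1; 2, 1, 2], !![1, 1, 2; 0, 1, 0; 0, 2, 1], !![2, 0, 0; 0, 2, 0; 0, 2, 1]],
    ![!![0, 0, 1; 0, 1, 1; 2, 2, 0], !![1, 2, 0; 0, 1, 1; 0, 0, 1], !![2, 1, 0; 0, 1, 0; 0, 0, 2]],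
    ![!![0, 0, 1; 0, 1, 1; 2, 2, 1], !![1, 0, 1; 0, 0, 2; 0, 1, 2], !![2, 2, 0; 0, 1, 0; 0, 1, 2]]]

/-- Representatives of the thirteen points. -/
def vecs : Fin 4 → Fin 13 → Fin 3 → ZMod 3 :=
  ![![![1, 0, 0], ![0, 0, 1], ![1, 1, 1], ![1, 2, 1], ![1, 0, 2], ![1, 1, 2], ![1, 0, 1], ![1, 1, 0], ![0, 1, 0], ![0, 1, 1], ![1, 2, 2], ![1, 2, 0], ![0, 1, 2]],
    ![![1, 0, 0], ![0, 0, 1], ![1, 1, 2], ![1, 0, 2], ![1, 1, 0], ![0, 1, 0], ![0, 1, 1], ![1, 2, 0], ![0, 1, 2], ![1, 0, 1], ![1, 1, 1], ![1, 2, 2], ![1, 2, 1]],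
    ![![1, 0, 0], ![0, 0, 1], ![1, 1, 0], ![0, 1, 1], ![1, 2, 2], ![1, 2, 0], ![0, 1, 0], ![0, 1, 2], ![1, 0, 1], ![1, 1, 2], ![1, 0, 2], ![1, 1, 1], ![1, 2, 1]],
    ![![1, 0, 0], ![0, 0, 1], ![1, 1, 1], ![1, 2, 2], ![1, 2, 1], ![1, 0, 1], ![1, 1, 0], ![0, 1, 1], ![1, 2, 0], ![0, 1, 0], ![0, 1, 2], ![1, 0, 2], ![1, 1, 2]]]

def gens (s : Fin 4) : Fin 3 → Fin 13 → Fin 13 := ![fun i => i + 1, fun i => 3 * i, third s]

theorem mats_det : ∀ (s : Fin 4) (i : Fin 3), (mats s i).det = 1 := by decide +kernel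

theorem mats_vecs : ∀ (s : Fin 4) (i : Fin 3) (j : Fin 13), ∃ c : ZMod 3, c ≠ 0 ∧
    (mats s i).mulVec (vecs s j) = c • vecs s (gens s i j) := by decide +kernel

theorem vecs_inj : ∀ (s : Fin 4) (i j : Fin 13) (c : ZMod 3),
    vecs s i = c • vecs s j → i = j := by decide +kernel

theorem vecs_surj : ∀ (s : Fin 4) (a b c : ZMod 3), (a ≠ 0 ∨ b ≠ 0 ∨ c ≠ 0) →
    ∃ (i : Fin 13) (k : ZMod 3), k ≠ 0 ∧ ![a, b, c] = k • vecs s i := by decide +kernel

/-- Evaluation of a word in `i ↦ i + 1` and a second map. -/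
def ev (w : Fin 13 → Fin 13) (l : List Bool) (i : Fin 13) : Fin 13 :=
  l.foldr (fun c j => if c then w j else j + 1) i

def words : List (List Bool) :=
  [[false, true], [false, false, true], [false, false, false, true],
    [false, false, false, false, true]]

/-- A cycle of some word shows that its order does not divide 312. -/
def refuted (w : Fin 13 → Fin 13) : Bool :=
  words.any fun l => (List.finRange 13).any fun i => (List.range 14).any fun c =>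
    !Nat.beq c 0 && ((ev w l)^[c] i == i) && !((ev w l)^[312 % c] i == i)

/-- The candidates that are involutions are refuted, except four. -/
def checkAll : Bool :=
  [1, 2, 4, 7].all fun a => (List.finRange 13).all fun b => (List.finRange 13).all fun c =>
    (List.finRange 13).all fun d =>
      !((List.finRange 13).all fun i => tab a b c d (tab a b c d i) == i) ||
        ((List.finRange 4).any fun s => (List.finRange 13).all fun i => tab a b c d i == third s i) ||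
        refuted (tab a b c d)

theorem checkAll_true : checkAll = true := by decide +kernel

theorem normalize : ∀ a : Fin 13, a ≠ 0 → ∃ k : Fin 3, (fun i => 3 * i)^[k.val] a = 1 ∨
    (fun i => 3 * i)^[k.val] a = 2 ∨ (fun i => 3 * i)^[k.val] a = 4 ∨
    (fun i => 3 * i)^[k.val] a = 7 := by decide +kernel

theorem tab_spec : ∀ a b c d i : Fin 13, tab a b c d (3 * i) = 9 * tab a b c d i := by
  intro a b c d i
  have h1 : ∀ x : Fin 13, 9 * (9 * x) = 3 * x := by decide +kernel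
  have h2 : ∀ x : Fin 13, 9 * (3 * x) = x := by decide +kernel
  fin_cases i <;> simp [tab, h1, h2]

theorem orbit_four : ∀ i : Fin 13, i = 0 ∨ ∃ k : Fin 3, (fun j => 3 * j)^[k.val] 1 = i ∨
    (fun j => 3 * j)^[k.val] 2 = i ∨ (fun j => 3 * j)^[k.val] 4 = i ∨
    (fun j => 3 * j)^[k.val] 7 = i := by decide +kernel

end CfsgLib.Small.L33
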