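import Cfsg.Agent.Lib.Small.L33.Structure
import Cfsg.Agent.Lib.Small.L33.Points
import Cfsg.Agent.Lib.Classical.Order

/-!
# The simple group of order 5616 with an involution centralizer `GL(2, 3)` is `PSL(3, 3)`
-/

set_option autoImplicit false
set_option linter.style.haveILetI false
set_option linter.unusedSectionVars false

open Subgroup

namespace CfsgLib.Small.L33

local notation "SL33" => Matrix.SpecialLinearGroup (Fin 3) (ZMod 3)

theorem card_SL33 : Nat.card SL33 = 5616 := by
  rw [CfsgLib.Classical.card_SL_fin' (F := ZMod 3) 3, Nat.card_eq_fintype_card, ZMod.card]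
  decide

theorem center_SL33 : center SL33 = ⊥ := by
  refine (eq_bot_iff_forall _).2 fun A hA => ?_
  obtain ⟨r, hr, hA'⟩ := Matrix.SpecialLinearGroup.mem_center_iff.1 hA
  have : r = 1 := (show ∀ r : ZMod 3, r ^ 3 = 1 → r = 1 by decide) r (by simpa using hr)
  refine Subtype.ext ?_
  rw [← hA', this]
  simp

/-- `SL(3, 3)` and `PSL(3, 3)` agree. -/
theorem nonempty_PSL : Nonempty (SL33 ≃* Matrix.ProjectiveSpecialLinearGroup (Fin 3) (ZMod 3)) := by
  refine ⟨MulEquiv.ofBijective (QuotientGroup.mk' (center SL33)) ⟨?_, QuotientGroup.mk'_surjective _⟩⟩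
  rw [← MonoidHom.ker_eq_bot_iff, QuotientGroup.ker_mk', center_SL33]

/-- The point map induced by a matrix on the labelled points. -/
theorem existsUnique_image (l : Fin 4) (M : SL33) (i : Fin 13) :
    ∃! j : Fin 13, ∃ c : ZMod 3, c ≠ 0 ∧ M.1.mulVec (vecs l i) = c • vecs l j := by
  classical
  have hne : M.1.mulVec (vecs l i) ≠ 0 := by
    intro h
    have h2 : (M⁻¹).1.mulVec (M.1.mulVec (vecs l i)) = vecs l i := by
      rw [Matrix.mulVec_mulVec, ← Matrix.SpecialLinearGroup.coe_mul, inv_mul_cancel,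
        Matrix.SpecialLinearGroup.coe_one, Matrix.one_mulVec]
    rw [h, Matrix.mulVec_zero] at h2
    exact (show ∀ (l : Fin 4) (i : Fin 13), vecs l i ≠ 0 by decide +kernel) l i h2.symm
  obtain ⟨w, hw⟩ : ∃ w, M.1.mulVec (vecs l i) = w := ⟨_, rfl⟩
  rw [hw] at hne ⊢
  have hw3 : w = ![w 0, w 1, w 2] := by funext k; fin_cases k <;> rfl
  obtain ⟨j, k, hk, hjk⟩ := vecs_surj l (w 0) (w 1) (w 2) (by
    by_contra h
    push Not at h
    exact hne (hw3.trans (by funext k; fin_cases k <;> simp [h.1, h.2.1, h.2.2])))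
  rw [← hw3] at hjk
  refine ⟨j, ⟨k, hk, hjk⟩, ?_⟩
  rintro j' ⟨c, hc, hj'⟩
  refine vecs_inj l j' j (c⁻¹ * k) ?_
  rw [mul_smul, ← hjk, hj', smul_smul, inv_mul_cancel₀ hc, one_smul]

noncomputable def image (l : Fin 4) (M : SL33) (i : Fin 13) : Fin 13 :=
  (existsUnique_image l M i).exists.choose

theorem image_spec (l : Fin 4) (M : SL33) (i : Fin 13) :
    ∃ c : ZMod 3, c ≠ 0 ∧ M.1.mulVec (vecs l i) = c • vecs l (image l M i) :=
  (existsUnique_image l M i).exists.choose_spec

theorem image_eq (l : Fin 4) (M : SL33) (i j : Fin 13)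
    (h : ∃ c : ZMod 3, c ≠ 0 ∧ M.1.mulVec (vecs l i) = c • vecs l j) : image l M i = j :=
  (existsUnique_image l M i).unique (image_spec l M i) h

theorem image_one (l : Fin 4) (i : Fin 13) : image l 1 i = i :=
  image_eq l 1 i i ⟨1, one_ne_zero, by
    rw [Matrix.SpecialLinearGroup.coe_one, Matrix.one_mulVec, one_smul]⟩

theorem image_mul (l : Fin 4) (M N : SL33) (i : Fin 13) :
    image l (M * N) i = image l M (image l N i) := by
  obtain ⟨c, hc, h1⟩ := image_spec l N i
  obtain ⟨d, hd, h2⟩ := image_spec l M (image l N i)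
  refine image_eq l _ i _ ⟨c * d, mul_ne_zero hc hd, ?_⟩
  rw [Matrix.SpecialLinearGroup.coe_mul, ← Matrix.mulVec_mulVec, h1, Matrix.mulVec_smul, h2,
    smul_smul]

/-- The action on the points. -/
noncomputable def pointPerm (l : Fin 4) : SL33 →* Equiv.Perm (Fin 13) where
  toFun M :=
    { toFun := image l M
      invFun := image l M⁻¹
      left_inv := fun i => by rw [← image_mul, inv_mul_cancel, image_one]
      right_inv := fun i => by rw [← image_mul, mul_inv_cancel, image_one] }
  map_one' := Equiv.ext fun i => image_one l i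
  map_mul' M N := Equiv.ext fun i => image_mul l M N i

theorem pointPerm_injective (l : Fin 4) : Function.Injective (pointPerm l) := by
  rw [injective_iff_map_eq_one]
  intro M hM
  have hfix : ∀ a b c : ZMod 3, ∃ k : ZMod 3, M.1.mulVec ![a, b, c] = k • ![a, b, c] := by
    intro a b c
    by_cases h0 : a ≠ 0 ∨ b ≠ 0 ∨ c ≠ 0
    · obtain ⟨i, k, hk, he⟩ := vecs_surj l a b c h0
      obtain ⟨d, hd, hMi⟩ := image_spec l M i
      rw [show image l M i = i from congrArg (fun σ : Equiv.Perm (Fin 13) => σ i) hM] at hMi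
      exact ⟨d, by rw [he, Matrix.mulVec_smul, hMi, smul_smul, smul_smul, mul_comm]⟩
    · push Not at h0
      refine ⟨0, ?_⟩
      rw [h0.1, h0.2.1, h0.2.2, zero_smul]
      funext i
      simp [Matrix.mulVec, dotProduct, Fin.sum_univ_three]
  obtain ⟨k1, h1⟩ := hfix 1 0 0
  obtain ⟨k2, h2⟩ := hfix 0 1 0
  obtain ⟨k3, h3⟩ := hfix 0 0 1
  obtain ⟨k, h4⟩ := hfix 1 1 1
  have e1 := fun i => congrFun h1 i
  have e2 := fun i => congrFun h2 i
  have e3 := fun i => congrFun h3 i
  have e4 := fun i => congrFun h4 i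
  simp only [Fin.forall_fin_succ, IsEmpty.forall_iff, and_true, Matrix.mulVec, dotProduct,
    Fin.sum_univ_three] at e1 e2 e3 e4
  simp at e1 e2 e3 e4
  have hMk : M.1 = k • (1 : Matrix (Fin 3) (Fin 3) (ZMod 3)) := by
    ext i j
    fin_cases i <;> fin_cases j <;> simp_all
  have hdet : M.1.det = 1 := M.2
  rw [hMk, Matrix.det_smul, Matrix.det_one, mul_one, Fintype.card_fin] at hdet
  refine Subtype.ext ?_
  rw [hMk, (show ∀ r : ZMod 3, r ^ 3 = 1 → r = 1 by decide) k hdet, one_smul]
  rfl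

variable {G : Type*} [Group G] [Finite G] [IsSimpleGroup G] {t u s : G}

/-- A faithful action on thirteen points in which a chosen element is `i ↦ i + 1`. -/
theorem exists_points (B : Base G t u s) : ∃ (f : G →* Equiv.Perm (Fin 13)) (x : G),
    Function.Injective f ∧ orderOf x = 13 ∧ ∀ i, f x i = i + 1 := by
  classical
  haveI := Fact.mk (show Nat.Prime 13 by norm_num)
  obtain ⟨K, hK⟩ := B.exists_index_thirteen
  have hc : Nat.card (G ⧸ K) = 13 := hK
  let e : G ⧸ K ≃ Fin 13 := Finite.equivFinOfCardEq hc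
  let f₀ : G →* Equiv.Perm (Fin 13) :=
    (e.permCongrHom).toMonoidHom.comp (MulAction.toPermHom G (G ⧸ K))
  have hinj : Function.Injective f₀ := by
    refine (e.permCongrHom).injective.comp ?_
    rw [← MonoidHom.ker_eq_bot_iff, ← Subgroup.normalCore_eq_ker]
    refine (Subgroup.normalCore_normal K).eq_bot_or_eq_top.resolve_right fun h => ?_
    have htop : K = ⊤ := top_unique (h ▸ Subgroup.normalCore_le K)
    rw [htop, Subgroup.index_top] at hK
    omega
  obtain ⟨x, hx⟩ := exists_prime_orderOf_dvd_card' (G := G) 13 (by rw [B.card]; norm_num)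
  let X : Equiv.Perm (Fin 13) := Equiv.addRight 1
  have hXo : orderOf X = 13 := orderOf_eq_prime
    (Equiv.ext fun i => by revert i; decide +kernel)
    (fun h => absurd (Equiv.congr_fun h 0) (by decide +kernel))
  have hfx : orderOf (f₀ x) = 13 := by rw [orderOf_injective f₀ hinj, hx]
  have key : ∀ σ : Equiv.Perm (Fin 13), orderOf σ = 13 → σ.cycleType = {13} := by
    intro σ hσ
    obtain ⟨n, hn⟩ := Equiv.Perm.cycleType_prime_order (σ := σ) (by rw [hσ]; norm_num)
    have hle := Equiv.Perm.sum_cycleType_le σ (α := Fin 13)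
    rw [hn, hσ] at hle
    simp only [Multiset.sum_replicate, smul_eq_mul, Fintype.card_fin] at hle
    have h0 : n = 0 := by omega
    rw [hn, hσ, h0]
    rfl
  obtain ⟨τ, hτ⟩ := isConj_iff.1
    (Equiv.Perm.isConj_iff_cycleType_eq.2 ((key _ hfx).trans (key _ hXo).symm))
  refine ⟨(MulAut.conj τ).toMonoidHom.comp f₀, x, (MulAut.conj τ).injective.comp hinj, hx,
    fun i => ?_⟩
  show (τ * f₀ x * τ⁻¹) i = i + 1
  rw [hτ]
  rfl

/-- An element of order three sending an element of order thirteen to its cube. -/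
theorem exists_cubing (B : Base G t u s) {x : G} (hx : orderOf x = 13) :
    ∃ y : G, y ^ 3 = 1 ∧ y * x * y⁻¹ = x ^ 3 := by
  classical
  haveI := Fact.mk (show Nat.Prime 13 by norm_num)
  haveI := Fact.mk Nat.prime_three
  obtain ⟨P, hP⟩ := (IsPGroup.of_card (p := 13) (n := 1)
    (show Nat.card (zpowers x) = 13 ^ 1 by rw [Nat.card_zpowers, hx, pow_one])).exists_le_sylow
  obtain ⟨hP13, hC, hN⟩ := B.card_normalizer_thirteen P
  have hPz : (P : Subgroup G) = zpowers x :=
    (eq_of_le_of_card_ge hP (by rw [hP13, Nat.card_zpowers, hx])).symm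
  obtain ⟨⟨y₀, hy⟩, hyo⟩ := exists_prime_orderOf_dvd_card'
    (G := normalizer ((P : Subgroup G) : Set G)) 3 (by rw [hN]; norm_num)
  rw [Subgroup.orderOf_mk] at hyo
  have h1 : y₀ * x * y₀⁻¹ ∈ zpowers x :=
    hPz ▸ (mem_normalizer_iff.1 hy x).1 (hPz ▸ mem_zpowers x)
  obtain ⟨j, hj, hjx⟩ : ∃ j < 13, x ^ j = y₀ * x * y₀⁻¹ := by
    rw [mem_zpowers_iff_mem_range_orderOf, Finset.mem_image] at h1
    obtain ⟨j, hj, e⟩ := h1
    exact ⟨j, by rw [Finset.mem_range, hx] at hj; exact hj, e⟩
  have h3 : y₀ ^ 3 = 1 := by rw [← hyo, pow_orderOf_eq_one]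
  have hpow : ∀ k : ℕ, y₀ ^ k * x * (y₀ ^ k)⁻¹ = x ^ (j ^ k) := by
    intro k
    induction k with
    | zero => simp
    | succ k ih =>
      calc y₀ ^ (k + 1) * x * (y₀ ^ (k + 1))⁻¹ = y₀ * (y₀ ^ k * x * (y₀ ^ k)⁻¹) * y₀⁻¹ := by
            rw [pow_succ']; group
        _ = _ := by rw [ih, ← conj_pow, ← hjx, ← pow_mul, pow_succ']
  have hj3 : j ^ 3 % 13 = 1 := by
    have h := hpow 3
    rw [h3, one_mul, inv_one, mul_one] at h
    have h' := pow_eq_pow_iff_modEq.1 (((pow_one x).trans h).symm)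
    rw [hx] at h'
    exact h'
  have hj1 : j ≠ 1 := fun e => by
    rw [e, pow_one, eq_mul_inv_iff_mul_eq] at hjx
    have hyC : y₀ ∈ centralizer ((P : Subgroup G) : Set G) := by
      rw [mem_centralizer_iff, hPz]
      intro g hg
      obtain ⟨k, rfl⟩ := mem_zpowers_iff.1 hg
      exact ((show Commute x y₀ from hjx).zpow_left k).eq
    have := orderOf_dvd_natCard _ hyC
    rw [hC, hyo] at this
    norm_num at this
  obtain ⟨k, -, hk⟩ : ∃ k < 3, j ^ k % 13 = 3 :=
    (show ∀ j < 13, j ^ 3 % 13 = 1 → j ≠ 1 → ∃ k < 3, j ^ k % 13 = 3 by decide +kernel) j hj hj3 hj1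
  refine ⟨y₀ ^ k, ?_, ?_⟩
  · rw [← pow_mul, mul_comm, pow_mul, h3, one_pow]
  · rw [hpow, ← pow_mod_orderOf, hx, hk]

theorem pow_312 (B : Base G t u s) (f : G →* Equiv.Perm (Fin 13)) (hf : Function.Injective f)
    (g : G) : g ^ 312 = 1 := by
  have h1 : g ^ 360360 = 1 := by
    refine orderOf_dvd_iff_pow_eq_one.1 ?_
    rw [← orderOf_injective f hf, ← Equiv.Perm.lcm_cycleType, Multiset.lcm_dvd]
    intro n hn
    have h2 := Equiv.Perm.two_le_of_mem_cycleType hn
    have h13 := (Equiv.Perm.le_card_support_of_mem_cycleType hn).trans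
      ((Finset.card_le_univ _).trans_eq (Fintype.card_fin 13))
    interval_cases n <;> norm_num
  have h2 : g ^ 5616 = 1 := B.card ▸ pow_card_eq_one'
  have h27 : (g ^ 208) ^ 27 = 1 := by rw [← pow_mul]; exact h2
  have h3 := B.pow_three_eq_one h27
  rw [← pow_mul] at h3
  have h4 := pow_gcd_eq_one.2 ⟨h1, h3⟩
  rwa [show Nat.gcd 360360 (208 * 3) = 312 from by decide +kernel] at h4

/-- The recognition of `PSL(3, 3)`. -/
theorem iso_PSL (B : Base G t u s) :
    Nonempty (G ≃* Matrix.ProjectiveSpecialLinearGroup (Fin 3) (ZMod 3)) := by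
  classical
  haveI := Fact.mk (show Nat.Prime 13 by norm_num)
  haveI := Fact.mk Nat.prime_three
  obtain ⟨f, x, hf, hx, hfx⟩ := exists_points B
  obtain ⟨y₁, hy₁, hy₁x⟩ := exists_cubing B hx
  have happ : ∀ (g h : G) i, f (g * h) i = f g (f h i) := fun g h i => by
    rw [map_mul, Equiv.Perm.mul_apply]
  have hxk : ∀ (k : ℕ) i, f (x ^ k) i = (fun j => j + 1)^[k] i := fun k => by
    induction k with
    | zero => simp
    | succ k ih =>
      intro i
      rw [pow_succ', happ, ih, hfx, Function.iterate_succ_apply']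
  have hxk' : ∀ (k i : Fin 13), f (x ^ k.val) i = i + k := fun k i =>
    (hxk k.val i).trans ((show ∀ k i : Fin 13, (fun j => j + 1)^[k.val] i = i + k by
      decide +kernel) k i)
  set c := f y₁ 0 with hc
  set y := (x ^ c.val)⁻¹ * y₁ with hydef
  have hyx : y * x * y⁻¹ = x ^ 3 := by
    calc y * x * y⁻¹ = (x ^ c.val)⁻¹ * (y₁ * x * y₁⁻¹) * x ^ c.val := by rw [hydef]; group
      _ = _ := by rw [hy₁x]; group
  have hy0 : f y 0 = 0 := by
    rw [hydef, happ, map_inv, Equiv.Perm.inv_eq_iff_eq, ← hc, hxk', zero_add]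
  have hfy : ∀ i, f y i = 3 * i := by
    have hs : ∀ i, f y (i + 1) = f y i + 3 := fun i => by
      rw [← hfx, ← happ, show y * x = x ^ 3 * y by rw [← hyx]; group, happ, hxk]
      exact (show ∀ i : Fin 13, (fun j => j + 1)^[3] i = i + 3 by decide +kernel) _
    intro i
    induction i using Fin.induction with
    | zero => rw [hy0]; rfl
    | succ i ih =>
      rw [← Fin.coeSucc_eq_succ, hs, ih, mul_add]
      rfl
  have hyk : ∀ (k : ℕ) i, f (y ^ k) i = (fun j => 3 * j)^[k] i := fun k => by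
    induction k with
    | zero => simp
    | succ k ih =>
      intro i
      rw [pow_succ', happ, ih, hfy, Function.iterate_succ_apply']
  have hy : orderOf y = 3 := orderOf_eq_prime (hf (Equiv.ext fun i => by
      rw [hyk, map_one f]
      exact (show ∀ i : Fin 13, (fun j => 3 * j)^[3] i = i by decide +kernel) i))
    (fun h => by
      have := hfy 1
      rw [h, map_one f] at this
      exact absurd this (by decide))
  obtain ⟨w₀, hw₀2, hw₀⟩ := B.exists_inverting hy
  have hyinv : y⁻¹ = y ^ 2 := inv_eq_of_mul_eq_one_right (by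
    have h := pow_orderOf_eq_one y
    rw [hy] at h
    rw [← pow_succ']
    exact h)
  have hcomm : ∀ v : G, v * y * v⁻¹ = y⁻¹ → ∀ i, f v (3 * i) = 9 * f v i := fun v hv i => by
    rw [hyinv] at hv
    rw [← hfy, ← happ, show v * y = y ^ 2 * v by rw [← hv]; group, happ, hyk]
    exact (show ∀ i : Fin 13, (fun j => 3 * j)^[2] i = 9 * i by decide +kernel) _
  have hzero : ∀ v : G, v * y * v⁻¹ = y⁻¹ → f v 0 = 0 := fun v hv => by
    have := hcomm v hv 0
    rw [mul_zero] at this
    exact (show ∀ c : Fin 13, c = 9 * c → c = 0 by decide +kernel) _ this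
  obtain ⟨k, hk⟩ := normalize (f w₀ 1) fun h =>
    absurd ((f w₀).injective (h.trans (hzero w₀ hw₀).symm)) (by decide)
  set w := y ^ k.val * w₀ with hwdef
  have hw : w * y * w⁻¹ = y⁻¹ := by
    calc w * y * w⁻¹ = y ^ k.val * (w₀ * y * w₀⁻¹) * (y ^ k.val)⁻¹ := by rw [hwdef]; group
      _ = _ := by rw [hw₀]; group
  have hww : w * w = 1 := by
    have hw00 : w₀ * w₀ = 1 := by rw [← sq, ← hw₀2, pow_orderOf_eq_one]
    rw [hwdef]
    calc y ^ k.val * w₀ * (y ^ k.val * w₀)
        = y ^ k.val * (w₀ * y ^ k.val * w₀⁻¹) * (w₀ * w₀) := by group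
      _ = 1 := by rw [← conj_pow, hw₀, hw00, mul_one, inv_pow, mul_inv_cancel]
  have hw1 : f w 1 = 1 ∨ f w 1 = 2 ∨ f w 1 = 4 ∨ f w 1 = 7 := by rw [hwdef, happ, hyk]; exact hk
  set a := f w 1 with ha
  set b := f w 2 with hb
  set c' := f w 4 with hc'
  set d := f w 7 with hd
  have hiter : ∀ (m : ℕ) (i : Fin 13), f w i = tab a b c' d i →
      f w ((fun j => 3 * j)^[m] i) = tab a b c' d ((fun j => 3 * j)^[m] i) := by
    intro m i h
    induction m with
    | zero => exact h
    | succ m ih => rw [Function.iterate_succ_apply', hcomm w hw, ih, tab_spec]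
  have hfw : ∀ i, f w i = tab a b c' d i := by
    intro i
    rcases orbit_four i with rfl | ⟨m, rfl | rfl | rfl | rfl⟩
    · rw [hzero w hw]; rfl
    · exact hiter _ _ (by rw [← ha]; rfl)
    · exact hiter _ _ (by rw [← hb]; rfl)
    · exact hiter _ _ (by rw [← hc']; rfl)
    · exact hiter _ _ (by rw [← hd]; rfl)
  let el : List Bool → G := fun l => (l.map fun c => if c then w else x).prod
  have hel : ∀ l i, f (el l) i = ev (tab a b c' d) l i := by
    intro l
    induction l with
    | nil => intro i; simp [el, ev]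
    | cons c l ih =>
      intro i
      have : el (c :: l) = (if c then w else x) * el l := by simp [el]
      rw [this, happ, ih]
      cases c
      · exact hfx _
      · exact hfw _
  have helk : ∀ l (m : ℕ) i, f (el l ^ m) i = (ev (tab a b c' d) l)^[m] i := fun l m => by
    induction m with
    | zero => simp
    | succ m ih =>
      intro i
      rw [pow_succ', happ, ih, hel, Function.iterate_succ_apply']
  have hall := checkAll_true
  simp only [checkAll, List.all_eq_true, List.any_eq_true, Bool.or_eq_true, Bool.not_eq_true',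
    List.mem_finRange, true_and, forall_const] at hall
  have hmem : a ∈ ([1, 2, 4, 7] : List (Fin 13)) := by
    rcases hw1 with h | h | h | h <;> rw [h] <;> simp
  rcases hall a hmem b c' d with (hinvol | ⟨l, hl⟩) | hbad
  · exfalso
    obtain ⟨i, -, hi⟩ := List.all_eq_false.1 hinvol
    rw [Bool.not_eq_true, beq_eq_false_iff_ne] at hi
    apply hi
    rw [← hfw, ← hfw, ← happ, hww, map_one f]
    rfl
  swap
  · exfalso
    simp only [refuted, List.any_eq_true, Bool.and_eq_true, Bool.not_eq_true',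
      beq_eq_false_iff_ne, beq_iff_eq] at hbad
    obtain ⟨l, -, i, -, m, -, ⟨-, hm⟩, hne⟩ := hbad
    apply hne
    rw [← helk] at hm ⊢
    have hfix : ∀ q : ℕ, f (el l ^ (m * q)) i = i := fun q => by
      induction q with
      | zero => simp
      | succ q ih => rw [Nat.mul_succ, pow_add, happ, hm, ih]
    have h := pow_312 B f hf (el l)
    rw [← Nat.mod_add_div 312 m, pow_add] at h
    have h' := congrArg (fun g => f g i) h
    simp only [happ, hfix, map_one, Equiv.Perm.one_apply] at h'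
    exact h'
  have hfw' : ∀ i, f w i = third l i := fun i => by
    rw [hfw]
    exact beq_iff_eq.1 (hl i)
  -- generation
  set L := closure ({x, y, w} : Set G) with hL
  have hxL : x ∈ L := subset_closure (by simp)
  have hyL : y ∈ L := subset_closure (by simp)
  have hwL : w ∈ L := subset_closure (by simp)
  obtain ⟨P, hP⟩ := (IsPGroup.of_card (p := 13) (n := 1)
    (show Nat.card (zpowers x) = 13 ^ 1 by rw [Nat.card_zpowers, hx, pow_one])).exists_le_sylow
  obtain ⟨hP13, -, hN⟩ := B.card_normalizer_thirteen P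
  have hPz : (P : Subgroup G) = zpowers x :=
    (eq_of_le_of_card_ge hP (by rw [hP13, Nat.card_zpowers, hx])).symm
  set N := normalizer ((P : Subgroup G) : Set G) with hNdef
  have hy3 : y ^ 3 = 1 := by rw [← hy, pow_orderOf_eq_one]
  have hyN : y ∈ N := by
    rw [hNdef, hPz, mem_normalizer_iff]
    intro z
    have hmap : ∀ z ∈ zpowers x, y * z * y⁻¹ ∈ zpowers x := fun z hz => by
      obtain ⟨m, rfl⟩ := mem_zpowers_iff.1 hz
      rw [← conj_zpow, hyx]
      exact Subgroup.zpow_mem _ (Subgroup.pow_mem _ (mem_zpowers x) 3) m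
    refine ⟨hmap z, fun hz => ?_⟩
    have h2 := hmap _ (hmap _ hz)
    rwa [show y * (y * (y * z * y⁻¹) * y⁻¹) * y⁻¹ = y ^ 3 * z * (y ^ 3)⁻¹ by
      simp [pow_succ, mul_assoc], hy3, one_mul, inv_one, mul_one] at h2
  have hxN : x ∈ N := le_normalizer (hPz ▸ mem_zpowers x)
  have hNL : N ≤ L := by
    have h13 : 13 ∣ Nat.card (N ⊓ L : Subgroup G) :=
      hx ▸ orderOf_dvd_natCard _ (show x ∈ N ⊓ L from ⟨hxN, hxL⟩)
    have h3 : 3 ∣ Nat.card (N ⊓ L : Subgroup G) :=
      hy ▸ orderOf_dvd_natCard _ (show y ∈ N ⊓ L from ⟨hyN, hyL⟩)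
    exact inf_eq_left.1 (eq_of_le_of_card_ge inf_le_left (hN.le.trans
      (Nat.le_of_dvd Nat.card_pos
        (Nat.Coprime.mul_dvd_of_dvd_of_dvd (by norm_num : Nat.Coprime 3 13) h3 h13))))
  have hwo : orderOf w = 2 := orderOf_eq_prime (by rw [sq, hww]) fun h => by
    rw [h, one_mul, inv_one, mul_one, eq_inv_iff_mul_eq_one, ← sq] at hw
    have := orderOf_dvd_of_pow_eq_one hw
    rw [hy] at this
    norm_num at this
  have hLtop : L = ⊤ := by
    have hPL : (P : Subgroup G) ≤ L := hPz ▸ zpowers_le.2 hxL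
    let Q : Sylow 13 L := P.subtype hPL
    have hNQ : normalizer ((Q : Subgroup L) : Set L) = N.subgroupOf L := by
      rw [Sylow.coe_subtype, hNdef, subgroupOf_normalizer_eq hPL]
    have hidx := (N.subgroupOf L).card_mul_index
    rw [Nat.card_congr (subgroupOfEquivOfLe hNL).toEquiv, hN] at hidx
    have hmod := card_sylow_modEq_one 13 L
    rw [Sylow.card_eq_index_normalizer Q] at hmod
    change (normalizer ((Q : Subgroup L) : Set L)).index ≡ _ [MOD 13] at hmod
    rw [hNQ] at hmod
    have h2 : 2 ∣ Nat.card L := hwo ▸ orderOf_dvd_natCard _ hwL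
    have hdvd := B.card ▸ L.card_subgroup_dvd_card
    rw [← hidx] at h2 hdvd
    have h144 : (N.subgroupOf L).index ∣ 144 :=
      Nat.dvd_of_mul_dvd_mul_left (by norm_num : 0 < 39) (show 39 * _ ∣ 39 * 144 from hdvd)
    have h2' : 2 ∣ (N.subgroupOf L).index :=
      Nat.Coprime.dvd_of_dvd_mul_left (by norm_num : Nat.Coprime 2 39) h2
    refine eq_top_of_card_eq _ ?_
    rw [← hidx, B.card]
    have key : ∀ m < 145, m ∣ 144 → 2 ∣ m → m % 13 = 1 → m = 144 := by decide +kernel
    rw [key _ (Nat.lt_succ_of_le (Nat.le_of_dvd (by norm_num) h144)) h144 h2' hmod]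
  have hgen : ∀ (i : Fin 3) (g : G), (∀ j, f g j = gens l i j) → g ∈ (pointPerm l).range.comap f := by
    intro i g hg
    refine ⟨⟨mats l i, mats_det l i⟩, Equiv.ext fun j => ?_⟩
    rw [hg]
    exact image_eq l _ j _ (mats_vecs l i j)
  have hrange : f.range ≤ (pointPerm l).range := by
    have hsub : L ≤ (pointPerm l).range.comap f := by
      rw [hL, closure_le]
      rintro _ (rfl | rfl | rfl)
      · exact hgen 0 _ hfx
      · exact hgen 1 _ hfy
      · exact hgen 2 _ hfw'
    rintro _ ⟨g, rfl⟩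
    exact hsub (hLtop ▸ mem_top g)
  have heq : f.range = (pointPerm l).range := by
    refine eq_of_le_of_card_ge hrange (le_of_eq ?_)
    rw [← Nat.card_congr (MonoidHom.ofInjective hf).toEquiv,
      ← Nat.card_congr (MonoidHom.ofInjective (pointPerm_injective l)).toEquiv, card_SL33, B.card]
  obtain ⟨φ⟩ := nonempty_PSL
  exact ⟨(((MonoidHom.ofInjective hf).trans (MulEquiv.subgroupCongr heq)).trans
    (MonoidHom.ofInjective (pointPerm_injective l)).symm).trans φ⟩

end CfsgLib.Small.L33
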