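import Mathlib
import Cfsg.Agent.Lib.Small.L33.GLFacts
import Cfsg.Agent.Lib.Small.L33.Main

/-!
# An involution and a Singer cycle of `SL(3, 3)`
-/

set_option autoImplicit false

namespace CfsgLib.Small.L33

open Subgroup CfsgLib.Small.GL23

local notation "SL33" => Matrix.SpecialLinearGroup (Fin 3) (ZMod 3)

/-- Block embedding of `GL(2, 3)`. -/
def blockMat (a b c d : ZMod 3) : Matrix (Fin 3) (Fin 3) (ZMod 3) :=
  !![a, b, 0; c, d, 0; 0, 0, a * d - b * c]

theorem blockMat_det : ∀ a b c d : ZMod 3, a * d - b * c ≠ 0 → (blockMat a b c d).det = 1 := by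
  decide +kernel

theorem det_entries_ne (g : H) : g.val 0 0 * g.val 1 1 - g.val 0 1 * g.val 1 0 ≠ 0 := by
  rw [← Matrix.det_fin_two]
  exact (g.isUnit.map Matrix.detMonoidHom).ne_zero

/-- The embedding. -/
def block : H →* SL33 where
  toFun g := ⟨blockMat (g.val 0 0) (g.val 0 1) (g.val 1 0) (g.val 1 1),
    blockMat_det _ _ _ _ (det_entries_ne g)⟩
  map_one' := Subtype.ext (by decide +kernel)
  map_mul' g h := Subtype.ext (by
    show blockMat _ _ _ _ = blockMat _ _ _ _ * blockMat _ _ _ _
    ext i j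
    fin_cases i <;> fin_cases j <;>
      simp [blockMat, Matrix.mul_apply, Fin.sum_univ_succ, Units.val_mul] <;> ring)

theorem block_injective : Function.Injective block := by
  intro g h hgh
  have he : ∀ i j, (block g).val i j = (block h).val i j := fun i j => by rw [hgh]
  refine Units.ext (Matrix.ext fun i j => ?_)
  fin_cases i <;> fin_cases j
  exacts [he 0 0, he 0 1, he 1 0, he 1 1]

theorem block_negOne : blockMat 2 0 0 2 = !![2, 0, 0; 0, 2, 0; 0, 0, 1] := by decide +kernel

theorem entries_zero (A : Matrix (Fin 3) (Fin 3) (ZMod 3))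
    (h : A * !![2, 0, 0; 0, 2, 0; 0, 0, 1] = !![2, 0, 0; 0, 2, 0; 0, 0, 1] * A) :
    A 0 2 = 0 ∧ A 1 2 = 0 ∧ A 2 0 = 0 ∧ A 2 1 = 0 := by
  have key : ∀ z : ZMod 3, (z = 2 * z → z = 0) ∧ (z * 2 = z → z = 0) := by decide +kernel
  have e : ∀ i j : Fin 3, _ = _ := fun i j => congrFun (congrFun h i) j
  have e02 := e 0 2
  have e12 := e 1 2
  have e20 := e 2 0
  have e21 := e 2 1
  simp [Matrix.mul_apply, Fin.sum_univ_succ] at e02 e12 e20 e21
  exact ⟨(key _).1 e02, (key _).1 e12, (key _).2 e20, (key _).2 e21⟩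

theorem block_surj : ∀ a b c d e : ZMod 3, (!![a, b, 0; c, d, 0; 0, 0, e]).det = 1 →
    e = a * d - b * c ∧ a * d - b * c ≠ 0 := by decide +kernel

theorem commute_block {M : SL33} :
    M * block negOne = block negOne * M ↔ M ∈ block.range := by
  constructor
  · intro h
    have ht : (block negOne).val = !![2, 0, 0; 0, 2, 0; 0, 0, 1] := block_negOne
    have h' : M.val * (block negOne).val = (block negOne).val * M.val := congrArg Subtype.val h
    rw [ht] at h'
    obtain ⟨z1, z2, z3, z4⟩ := entries_zero _ h'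
    have hM : M.val = !![M.val 0 0, M.val 0 1, 0; M.val 1 0, M.val 1 1, 0; 0, 0, M.val 2 2] := by
      ext i j
      fin_cases i <;> fin_cases j <;> first | rfl | assumption
    have hd := M.2
    rw [hM] at hd
    obtain ⟨he, hne⟩ := block_surj _ _ _ _ _ hd
    let g : H := Matrix.GeneralLinearGroup.mkOfDetNeZero !![M.val 0 0, M.val 0 1; M.val 1 0, M.val 1 1]
      (by rw [Matrix.det_fin_two]; simpa using hne)
    refine ⟨g, Subtype.ext ?_⟩
    rw [hM, he]
    rfl
  · rintro ⟨g, rfl⟩
    rw [← map_mul, ← map_mul]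
    exact congrArg block (show g * negOne = negOne * g from
      (show ∀ g ∈ els, g * negOne = negOne * g by decide +kernel) g (mem_els g))

theorem invol_class : ∀ g ∈ els, g * g = 1 → g ≠ 1 → g ≠ negOne →
    ∃ x ∈ els, x * g = refl * x := by decide +kernel

/-- A monomial matrix carrying `diag(1, 2, 2)` to `diag(2, 2, 1)`. -/
def monomial : SL33 := ⟨!![0, 1, 0; 0, 0, 1; 1, 0, 0], by decide +kernel⟩

theorem monomial_spec :
    monomial.val * (block refl).val = (block negOne).val * monomial.val := by decide +kernel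

/-- All involutions centralising the given one are conjugate to it. -/
theorem block_invol_conj {g : H} (hg : g * g = 1) (hg1 : g ≠ 1) :
    ∃ w : SL33, w * block g * w⁻¹ = block negOne := by
  by_cases h : g = negOne
  · exact ⟨1, by rw [h, one_mul, inv_one, mul_one]⟩
  obtain ⟨x, -, hx⟩ := invol_class g (mem_els g) hg hg1 h
  refine ⟨monomial * block x, ?_⟩
  have hm : monomial * block refl = block negOne * monomial := Subtype.ext monomial_spec
  rw [mul_inv_eq_iff_eq_mul, mul_assoc, ← map_mul, hx, map_mul, ← mul_assoc, hm, mul_assoc]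

/-- The companion matrix of `X³ - X - 1`. -/
def singer : SL33 := ⟨!![0, 0, 1; 1, 0, 1; 0, 1, 0], by decide +kernel⟩

theorem singer_facts : singer.val ^ 13 = 1 ∧ singer.val ≠ 1 ∧
    ∀ a b c : ZMod 3, (!![a, c, b; b, a + c, b + c; c, b, a + c] : Matrix (Fin 3) (Fin 3) (ZMod 3)).det = 1 →
      ∃ k : Fin 13, !![a, c, b; b, a + c, b + c; c, b, a + c] = singer.val ^ k.val := by
  decide +kernel

theorem orderOf_singer : orderOf singer = 13 := by
  haveI : Fact (Nat.Prime 13) := ⟨by norm_num⟩
  refine orderOf_eq_prime (Subtype.ext ?_) fun h => singer_facts.2.1 (congrArg Subtype.val h)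
  rw [Matrix.SpecialLinearGroup.coe_pow, singer_facts.1]
  rfl

theorem card_centralizer_singer : Nat.card (centralizer ({singer} : Set SL33)) = 13 := by
  have h : centralizer ({singer} : Set SL33) = zpowers singer := by
    refine le_antisymm (fun M hM => ?_) (zpowers_le.2 (mem_centralizer_singleton_iff.2 rfl))
    have h' : M.val * singer.val = singer.val * M.val :=
      congrArg (fun z : SL33 => z.val) (mem_centralizer_singleton_iff.1 hM)
    have e : ∀ i j, (M.val * singer.val) i j = (singer.val * M.val) i j := fun i j => by rw [h']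
    have hM' : M.val = !![M.val 0 0, M.val 2 0, M.val 1 0;
        M.val 1 0, M.val 0 0 + M.val 2 0, M.val 1 0 + M.val 2 0;
        M.val 2 0, M.val 1 0, M.val 0 0 + M.val 2 0] := by
      have e00 := e 0 0
      have e10 := e 1 0
      have e20 := e 2 0
      have e01 := e 0 1
      have e11 := e 1 1
      have e21 := e 2 1
      simp [singer, Matrix.mul_apply, Fin.sum_univ_succ] at e00 e10 e20 e01 e11 e21
      ext i j
      fin_cases i <;> fin_cases j <;> simp <;> grind
    obtain ⟨k, hk⟩ := singer_facts.2.2 _ _ _ (hM' ▸ M.2)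
    refine mem_zpowers_iff.2 ⟨k.val, ?_⟩
    rw [zpow_natCast]
    refine Subtype.ext ?_
    rw [Matrix.SpecialLinearGroup.coe_pow, ← hk, ← hM']
  rw [h, Nat.card_zpowers, orderOf_singer]

end CfsgLib.Small.L33
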