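import Cfsg.Agent.Lib.Small.CentralizerGL23
import Cfsg.Agent.Lib.Small.L33.GLFacts
import Cfsg.Agent.Lib.Transfer.NormalPComplement

/-!
# A group without quotient of order two with an involution centralizer `GL(2, 3)` is simple
-/

set_option autoImplicit false
set_option linter.style.haveILetI false

open Cfsg Subgroup

namespace CfsgLib.Small.L33

open CfsgLib.Small.GL23 (H els mem_els)

theorem involution_of_mul_self {a : H} (h1 : a ≠ 1) (h : a * a = 1) : orderOf a = 2 :=
  orderOf_eq_prime (by rw [sq, h]) h1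

/-- The kernel of the determinant. -/
def special : Subgroup H where
  carrier := {g | GL23.det g = 1}
  one_mem' := by decide
  mul_mem' := fun {g h} hg hh => by
    show GL23.det (g * h) = 1
    rw [GL23.det_mul g (mem_els g) h (mem_els h), show GL23.det g = 1 from hg,
      show GL23.det h = 1 from hh, mul_one]
  inv_mem' := fun {g} hg => by
    show GL23.det g⁻¹ = 1
    have h := GL23.det_mul g (mem_els g) g⁻¹ (mem_els g⁻¹)
    rw [mul_inv_cancel, show GL23.det g = 1 from hg, one_mul,
      show GL23.det (1 : H) = 1 by decide] at h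
    exact h.symm

theorem det_facts : ∀ g ∈ els, (GL23.det g = 1 ∨ GL23.det g = -1) ∧
    (GL23.det g = -1 → GL23.det (g * refl) = 1) := by decide +kernel

theorem det_refl : GL23.det refl = -1 := by decide +kernel

/-- The subgroups of odd order of `GL(2, 3)` that are normal are trivial. -/
theorem eq_bot_of_odd_normal {N : Subgroup H} [N.Normal] (hN : Odd (Nat.card N)) : N = ⊥ := by
  by_contra hne
  have h3 : Nat.card N ∣ 3 := by
    have h := card_subgroup_dvd_card N
    rw [Nat.card_eq_fintype_card (α := H), GL23.card_eq] at h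
    have hcop : Nat.Coprime (Nat.card N) 16 := by
      rw [show (16 : ℕ) = 2 ^ 4 from rfl]
      exact hN.coprime_two_right.pow_right 4
    exact hcop.dvd_of_dvd_mul_right (show Nat.card N ∣ 3 * 16 from h)
  rcases (Nat.dvd_prime Nat.prime_three).1 h3 with h | h
  · exact hne (card_eq_one.1 h)
  obtain ⟨⟨y, hy⟩, hy1⟩ : ∃ y : N, y ≠ 1 := by
    haveI : Nontrivial N := Finite.one_lt_card_iff_nontrivial.1 (by rw [h]; norm_num)
    exact exists_ne 1
  have hy3 : y * y * y = 1 := by
    have := pow_card_eq_one' (x := (⟨y, hy⟩ : N))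
    rw [h, pow_succ, pow_two] at this
    exact congrArg Subtype.val this
  have hy1' : y ≠ 1 := fun e => hy1 (Subtype.ext e)
  obtain ⟨x, -, hx⟩ := three_conj y (mem_els y) hy1' hy3
  have hu : transv ∈ N := by
    have : x⁻¹ * y * x⁻¹⁻¹ ∈ N := ‹N.Normal›.conj_mem y hy x⁻¹
    rwa [inv_inv, mul_assoc, ← hx, inv_mul_cancel_left] at this
  obtain ⟨c, -, hc1, hc2⟩ := exists_other
  have hcard : ({1, transv, transv * transv, c * transv * c⁻¹} : Finset H).card = 4 := by
    have e1 : c * transv * c⁻¹ ≠ transv := fun e => hc1 (mul_inv_eq_iff_eq_mul.1 e)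
    have e2 : c * transv * c⁻¹ ≠ transv * transv := fun e => hc2 (mul_inv_eq_iff_eq_mul.1 e)
    have e3 : c * transv * c⁻¹ ≠ 1 := fun e => basic_facts.1 (conj_eq_one_iff.1 e)
    have t2 : transv * transv ≠ 1 := by decide +kernel
    rw [Finset.card_insert_of_notMem (by simp [basic_facts.1.symm, t2.symm, e3.symm]),
      Finset.card_insert_of_notMem (by simp [e1.symm, basic_facts.1]),
      Finset.card_insert_of_notMem (by simp [e2.symm]), Finset.card_singleton]
  have hle : 4 ≤ Nat.card N := by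
    rw [← hcard, ← Set.ncard_coe_finset, ← SetLike.coe_sort_coe, Nat.card_coe_set_eq]
    refine Set.ncard_le_ncard ?_ (Set.toFinite _)
    intro z hz
    simp only [Finset.coe_insert, Finset.coe_singleton, Set.mem_insert_iff,
      Set.mem_singleton_iff] at hz
    rcases hz with rfl | rfl | rfl | rfl
    exacts [one_mem N, hu, mul_mem hu hu, ‹N.Normal›.conj_mem _ hu c]
  omega

theorem isSimpleGroup_of_centralizer {G : Type*} [Group G] [Finite G]
    (hO : pResidual 2 G = ⊤) {t : G} (ht : orderOf t = 2)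
    (e : centralizer ({t} : Set G) ≃* H) : IsSimpleGroup G := by
  classical
  haveI := Fact.mk Nat.prime_two
  set C := centralizer ({t} : Set G) with hC
  have htC : t ∈ C := mem_centralizer_singleton_iff.2 rfl
  have het : e ⟨t, htC⟩ = negOne := by
    have h2 : orderOf (e ⟨t, htC⟩) = 2 := by rw [MulEquiv.orderOf_eq, orderOf_mk, ht]
    refine Units.ext (GL23.central_involution _ (mem_els _) (fun h => ?_) ?_ fun h _ => ?_)
    · rw [show e ⟨t, htC⟩ = 1 from Units.ext h, orderOf_one] at h2
      omega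
    · have hp := pow_orderOf_eq_one (e ⟨t, htC⟩)
      rw [h2, sq] at hp
      rw [hp]; rfl
    · obtain ⟨⟨y, hy⟩, rfl⟩ := e.surjective h
      rw [← map_mul, ← map_mul]
      congr 2
      exact Subtype.ext (mem_centralizer_singleton_iff.1 hy).symm
  let ι : H →* G := C.subtype.comp e.symm.toMonoidHom
  have hι : Function.Injective ι := C.subtype_injective.comp e.symm.injective
  have hιt : ι negOne = t := by
    show ((e.symm negOne : C) : G) = t
    rw [← het, e.symm_apply_apply]
  have hιC : ∀ a, ι a ∈ C := fun a => (e.symm a).2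
  have hsurj : ∀ g ∈ C, ∃ a, ι a = g := fun g hg => ⟨e ⟨g, hg⟩, by simp [ι]⟩
  set s := ι refl with hs
  have hso : orderOf s = 2 := by
    rw [hs, orderOf_injective ι hι, involution_of_mul_self basic_facts.2.2.1 basic_facts.2.2.2.1]
  have hsC : s ∈ C := hιC refl
  have hst : s ≠ t := fun h => basic_facts.2.2.2.2.1 (hι (h.trans hιt.symm))
  haveI : (oddCore G).Normal := pPrimeCore_normal 2 G
  set O := oddCore G with hOdef
  -- `t` is not isolated
  obtain ⟨g₀, hg₀, hg₀ne⟩ : ∃ g : G, Commute t (g * t * g⁻¹) ∧ g * t * g⁻¹ ≠ t := by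
    by_contra hcon
    push Not at hcon
    have hz : IsIsolatedInvolution t := ⟨ht, hcon⟩
    set K := special.map ι with hK
    set N := O ⊔ K with hN
    have hKC : ∀ c ∈ C, ∀ k ∈ K, c * k * c⁻¹ ∈ K := by
      intro c hc k hk
      obtain ⟨a, rfl⟩ := hsurj c hc
      obtain ⟨b, hb, rfl⟩ := hk
      refine ⟨a * b * a⁻¹, ?_, by simp⟩
      show GL23.det (a * b * a⁻¹) = 1
      rw [GL23.det_mul _ (mem_els _) _ (mem_els _), GL23.det_mul _ (mem_els _) _ (mem_els _),
        show GL23.det b = 1 from hb, mul_one, ← GL23.det_mul _ (mem_els _) _ (mem_els _),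
        mul_inv_cancel]
      decide +kernel
    haveI : N.Normal := by
      refine ⟨fun n hn g => ?_⟩
      obtain ⟨a, ha, c, hc, rfl⟩ := CfsgLib.Involutions.ZStar.exists_mul_centralizer hz g
      rw [hN, mem_sup_of_normal_left] at hn
      obtain ⟨o, ho, k, hk, rfl⟩ := hn
      have haN : a ∈ N := mem_sup_left ha
      rw [show a * c * (o * k) * (a * c)⁻¹ = a * (c * o * c⁻¹ * (c * k * c⁻¹)) * a⁻¹ by group]
      exact mul_mem (mul_mem haN (mul_mem (mem_sup_left (‹O.Normal›.conj_mem o ho c))
        (mem_sup_right (hKC c hc k hk)))) (inv_mem haN)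
    have hmem : ∀ g : G, g ∈ N ∨ g * s ∈ N := by
      intro g
      obtain ⟨a, ha, c, hc, rfl⟩ := CfsgLib.Involutions.ZStar.exists_mul_centralizer hz g
      obtain ⟨b, rfl⟩ := hsurj c hc
      obtain ⟨h1 | h1, h2⟩ := det_facts b (mem_els b)
      · exact Or.inl (mul_mem (mem_sup_left ha) (mem_sup_right ⟨b, h1, rfl⟩))
      · refine Or.inr ?_
        rw [hs, mul_assoc, ← map_mul]
        exact mul_mem (mem_sup_left ha) (mem_sup_right ⟨_, h2 h1, rfl⟩)
    have hsN : s ∉ N := by
      intro hsN
      rw [hN, mem_sup_of_normal_left] at hsN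
      obtain ⟨o, ho, _, ⟨b, hb, rfl⟩, he⟩ := hsN
      have ho' : o = ι (refl * b⁻¹) := by
        rw [map_mul, map_inv, ← hs, eq_mul_inv_iff_mul_eq]
        exact he
      have hodd : ¬ 2 ∣ orderOf (refl * b⁻¹) := by
        rw [← orderOf_injective ι hι, ← ho', ← Subgroup.orderOf_mk o ho]
        exact fun h => (Nat.not_even_iff_odd.2 (CfsgLib.Base.odd_card_oddCore G))
          (even_iff_two_dvd.2 (h.trans (orderOf_dvd_natCard _)))
      have hdet : GL23.det (refl * b⁻¹) = -1 := by
        rw [GL23.det_mul _ (mem_els _) _ (mem_els _),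
          show GL23.det b⁻¹ = 1 from special.inv_mem hb, det_refl, mul_one]
      obtain ⟨k, hk⟩ : ∃ k, orderOf (refl * b⁻¹) = 2 * k + 1 :=
        ⟨orderOf (refl * b⁻¹) / 2, by omega⟩
      generalize refl * b⁻¹ = w at hdet hk
      have hp := pow_orderOf_eq_one w
      rw [hk] at hp
      have key : ∀ m : ℕ, GL23.det (w ^ m) = (-1) ^ m := by
        intro m
        induction m with
        | zero => simp only [pow_zero]; decide +kernel
        | succ m ih => rw [pow_succ, GL23.det_mul _ (mem_els _) _ (mem_els _), ih, hdet, pow_succ]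
      have := key (2 * k + 1)
      rw [hp, pow_succ, pow_mul] at this
      norm_num at this
      exact absurd this (by decide +kernel)
    have hidx : N.index = 2 := index_eq_two_iff.2 ⟨s, fun b => by
      rcases hmem b with h | h
      · exact Or.inr ⟨h, fun h' => hsN (by simpa using mul_mem (inv_mem h) h')⟩
      · exact Or.inl ⟨h, fun h' => hsN (by simpa using mul_mem (inv_mem h') h)⟩⟩
    have := CfsgLib.Transfer.pResidual_le (p := 2) (G := G) (N := N) ⟨1, by rw [hidx, pow_one]⟩
    rw [hO, top_le_iff] at this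
    exact hsN (this ▸ mem_top s)
  -- one class of involutions
  have hinC : ∀ w : G, orderOf w = 2 → w ∈ C → IsConj t w := by
    intro w hw hwC
    by_cases hwt : w = t
    · rw [hwt]
    obtain ⟨a, ha⟩ := hsurj _ (show g₀ * t * g₀⁻¹ ∈ C from
      mem_centralizer_singleton_iff.2 hg₀.symm.eq)
    obtain ⟨b, rfl⟩ := hsurj w hwC
    have key : ∀ x : H, orderOf (ι x) = 2 → ι x ≠ t →
        x.val ≠ 1 ∧ (x * x).val = 1 ∧ x.val ≠ !![2, 0; 0, 2] := by
      intro x hx hxt
      rw [orderOf_injective ι hι] at hx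
      refine ⟨fun h => ?_, ?_, fun h => hxt ?_⟩
      · rw [show x = 1 from Units.ext h, orderOf_one] at hx
        omega
      · have hp := pow_orderOf_eq_one x
        rw [hx, sq] at hp
        rw [hp]; rfl
      · rw [show x = negOne from Units.ext h, hιt]
    obtain ⟨a1, a2, a3⟩ := key a (by
      rw [ha, show g₀ * t * g₀⁻¹ = MulAut.conj g₀ t from rfl, MulEquiv.orderOf_eq, ht]) (ha ▸ hg₀ne)
    obtain ⟨b1, b2, b3⟩ := key b hw hwt
    obtain ⟨x, -, hx⟩ := GL23.involution_conj _ (mem_els _) _ (mem_els _) a1 a2 a3 b1 b2 b3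
    refine (isConj_iff.2 ⟨g₀, rfl⟩).trans (isConj_iff.2 ⟨ι x, ?_⟩)
    rw [← ha, ← map_inv, ← map_mul, ← map_mul, Units.ext hx, mul_inv_cancel_right]
  have hinv : ∀ u : G, orderOf u = 2 → IsConj t u := by
    intro u hu
    obtain ⟨S, hS⟩ := ((IsPGroup.iff_card (p := 2)).2 ⟨1, by
      rw [Nat.card_zpowers, ht, pow_one]⟩ : IsPGroup 2 (zpowers t)).exists_le_sylow
    haveI : Nontrivial (S : Subgroup G) := ⟨⟨⟨t, hS (mem_zpowers t)⟩, 1, fun h => by
      rw [show t = 1 from congrArg Subtype.val h, orderOf_one] at ht; omega⟩⟩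
    haveI := S.2.center_nontrivial
    obtain ⟨z, hz⟩ := exists_prime_orderOf_dvd_card' (G := center (S : Subgroup G)) 2 (by
      obtain ⟨n, hn, hc⟩ := ((S.2.to_subgroup _).nontrivial_iff_card).1 ‹_›
      rw [hc]
      exact dvd_pow_self 2 hn.ne')
    set zz : G := ((z : (S : Subgroup G)) : G) with hzz
    have hzo : orderOf zz = 2 := by rw [hzz, orderOf_coe, orderOf_coe, hz]
    have hzc : ∀ y ∈ (S : Subgroup G), y * zz = zz * y :=
      fun y hy => congrArg Subtype.val (mem_center_iff.1 z.2 ⟨y, hy⟩)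
    obtain ⟨c, hc⟩ := isConj_iff.1 (hinC zz hzo
      (mem_centralizer_singleton_iff.2 (hzc t (hS (mem_zpowers t))).symm))
    obtain ⟨d, hd⟩ := CfsgLib.Involutions.exists_conj_mem_sylow_one S hu
    have hmem : c⁻¹ * (d * u * d⁻¹) * c ∈ C := by
      refine mem_centralizer_singleton_iff.2 ?_
      have h := hzc _ hd
      rw [← hc] at h
      calc c⁻¹ * (d * u * d⁻¹) * c * t = c⁻¹ * (d * u * d⁻¹ * (c * t * c⁻¹)) * c := by group
        _ = c⁻¹ * (c * t * c⁻¹ * (d * u * d⁻¹)) * c := by rw [h]
        _ = t * (c⁻¹ * (d * u * d⁻¹) * c) := by group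
    have ho : orderOf (c⁻¹ * (d * u * d⁻¹) * c) = 2 := by
      rw [show c⁻¹ * (d * u * d⁻¹) * c = MulAut.conj (c⁻¹ * d) u by simp [mul_assoc],
        MulEquiv.orderOf_eq, hu]
    exact (hinC _ ho hmem).trans (isConj_iff.2 ⟨d⁻¹ * c, by group⟩)
  have hCO : ∀ w : G, orderOf w = 2 → ∀ y ∈ O, Commute y w → y = 1 := by
    intro w hw y hy hyw
    obtain ⟨c, rfl⟩ := isConj_iff.1 (hinv w hw)
    have hy' : c⁻¹ * y * c ∈ O ⊓ C := ⟨by simpa using ‹O.Normal›.conj_mem y hy c⁻¹,
      mem_centralizer_singleton_iff.2 (by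
        calc c⁻¹ * y * c * t = c⁻¹ * (y * (c * t * c⁻¹)) * c := by group
          _ = c⁻¹ * (c * t * c⁻¹ * y) * c := by rw [hyw.eq]
          _ = t * (c⁻¹ * y * c) := by group)⟩
    set M := O.comap ι with hM
    have hMb : M = ⊥ := by
      refine eq_bot_of_odd_normal (CfsgLib.Base.odd_card_oddCore G |>.of_dvd_nat ?_)
      rw [← card_map_of_injective hι (K := M)]
      exact card_dvd_of_le (map_comap_le ι O)
    obtain ⟨a, ha⟩ := hsurj _ hy'.2
    have : a ∈ M := by rw [hM, mem_comap, ha]; exact hy'.1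
    rw [hMb, mem_bot] at this
    rw [this, map_one, eq_comm] at ha
    have h2 : y = c * (c⁻¹ * y * c) * c⁻¹ := by group
    rw [h2, ha, mul_one, mul_inv_cancel]
  have hinvert : ∀ w : G, orderOf w = 2 → ∀ y ∈ O, w * y * w⁻¹ = y⁻¹ := by
    intro w hw y hy
    have hww : w * w = 1 := by rw [← sq, ← hw, pow_orderOf_eq_one]
    let f : O → O := fun x => ⟨(x : G)⁻¹ * (w * x * w⁻¹),
      mul_mem (inv_mem x.2) (‹O.Normal›.conj_mem _ x.2 w)⟩
    have hf : Function.Injective f := by
      intro a b h
      have h' : (a : G)⁻¹ * (w * a * w⁻¹) = (b : G)⁻¹ * (w * b * w⁻¹) := congrArg Subtype.val h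
      have hcm : Commute ((b : G) * (a : G)⁻¹) w := by
        refine (mul_inv_eq_iff_eq_mul.1 (?_ : w * (b * (a : G)⁻¹) * w⁻¹ = b * (a : G)⁻¹)).symm
        calc w * (b * (a : G)⁻¹) * w⁻¹
            = (b : G) * ((b : G)⁻¹ * (w * b * w⁻¹)) * (w * a * w⁻¹)⁻¹ := by group
          _ = b * (a : G)⁻¹ := by rw [← h']; group
      exact Subtype.ext (mul_inv_eq_one.1 (hCO w hw _ (mul_mem b.2 (inv_mem a.2)) hcm)).symm
    obtain ⟨x, hx⟩ := (Finite.injective_iff_surjective.1 hf) ⟨y, hy⟩
    rw [← show (x : G)⁻¹ * (w * x * w⁻¹) = y from congrArg Subtype.val hx,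
      show w * ((x : G)⁻¹ * (w * x * w⁻¹)) * w⁻¹ =
        (w * x * w⁻¹)⁻¹ * ((w * w) * x * (w * w)⁻¹) by group, hww]
    group
  have hObot : O = ⊥ := by
    refine (eq_bot_iff_forall _).2 fun y hy => ?_
    have hts : orderOf (t * s) = 2 := by
      have hc : Commute s t := mem_centralizer_singleton_iff.1 hsC
      refine orderOf_eq_prime (by
        rw [hc.symm.mul_pow, show t ^ 2 = 1 by rw [← ht, pow_orderOf_eq_one],
          show s ^ 2 = 1 by rw [← hso, pow_orderOf_eq_one], one_mul]) fun h => hst ?_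
      have htt : t * t = 1 := by rw [← sq, ← ht, pow_orderOf_eq_one]
      exact (inv_eq_of_mul_eq_one_right h).symm.trans (inv_eq_of_mul_eq_one_right htt)
    refine hCO _ hts y hy (mul_inv_eq_iff_eq_mul.1 (?_ : t * s * y * (t * s)⁻¹ = y)).symm
    calc t * s * y * (t * s)⁻¹ = t * (s * y * s⁻¹) * t⁻¹ := by group
      _ = y := by rw [hinvert s hso y hy, ← conj_inv, hinvert t ht y hy, inv_inv]
  haveI : Nontrivial G := ⟨t, 1, fun h => by rw [h, orderOf_one] at ht; omega⟩
  refine { eq_bot_or_eq_top_of_normal := fun N hNn => ?_ }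
  haveI := hNn
  by_cases hev : 2 ∣ Nat.card N
  · refine Or.inr ?_
    obtain ⟨⟨w, hwN⟩, hw⟩ := exists_prime_orderOf_dvd_card' (G := N) 2 hev
    rw [orderOf_mk] at hw
    obtain ⟨c, hc⟩ := isConj_iff.1 (hinv w hw).symm
    have htN : t ∈ N := hc ▸ hNn.conj_mem w hwN c
    have hall : ∀ v : G, orderOf v = 2 → v ∈ N := fun v hv => by
      obtain ⟨d, hd⟩ := isConj_iff.1 (hinv v hv)
      exact hd ▸ hNn.conj_mem t htN d
    have hCN : C ≤ N := by
      intro g hg
      obtain ⟨a, rfl⟩ := hsurj g hg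
      obtain ⟨p, hp, q, hq, r, hr, rfl⟩ := three_invols a (mem_els a)
      have hin : ∀ x ∈ invols, ι x ∈ N := by
        intro x hx
        rw [invols, List.mem_filter, decide_eq_true_eq] at hx
        by_cases h1 : x = 1
        · rw [h1, map_one]; exact one_mem N
        · exact hall _ (by rw [orderOf_injective ι hι, involution_of_mul_self h1 hx.2])
      rw [map_mul, map_mul]
      exact mul_mem (mul_mem (hin p hp) (hin q hq)) (hin r hr)
    -- the Sylow argument
    obtain ⟨T⟩ := (inferInstance : Nonempty (Sylow 2 C))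
    set T' := (T : Subgroup C).map C.subtype with hT'
    have hT16 : Nat.card T' = 16 := by
      rw [hT', card_map_of_injective C.subtype_injective, T.card_eq_multiplicity,
        Nat.card_congr e.toEquiv, Nat.card_eq_fintype_card (α := H), GL23.card_eq,
        show (48 : ℕ) = 2 ^ 4 * 3 by norm_num, Nat.factorization_mul (by norm_num) (by norm_num),
        Nat.factorization_pow]
      simp [Nat.factorization_eq_zero_of_not_dvd (show ¬ 2 ∣ 3 by norm_num),
        Nat.Prime.factorization_self Nat.prime_two]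
    obtain ⟨S, hS⟩ := (IsPGroup.of_card (p := 2) (n := 4) (show Nat.card T' = 2 ^ 4 from hT16)).exists_le_sylow
    haveI : Nontrivial (S : Subgroup G) := Finite.one_lt_card_iff_nontrivial.1
      (lt_of_lt_of_le (by rw [hT16]; norm_num) (card_le_of_le hS))
    haveI := S.2.center_nontrivial
    obtain ⟨⟨⟨z, hzS⟩, hzc⟩, hz⟩ := exists_prime_orderOf_dvd_card' (G := center (S : Subgroup G)) 2 (by
      obtain ⟨n, hn, hcn⟩ := ((S.2.to_subgroup _).nontrivial_iff_card).1 ‹_›
      rw [hcn]
      exact dvd_pow_self 2 hn.ne')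
    rw [orderOf_mk, orderOf_mk] at hz
    -- every involution centralizer has the order of `C`, so `T'` is a Sylow subgroup
    have hSC : Nat.card (S : Subgroup G) ∣ 48 := by
      obtain ⟨d, hd⟩ := isConj_iff.1 (hinv z hz)
      have hle : (S : Subgroup G) ≤ C.map (MulAut.conj d).toMonoidHom := by
        intro y hy
        refine ⟨d⁻¹ * y * d, mem_centralizer_singleton_iff.2 ?_, by
          show d * (d⁻¹ * y * d) * d⁻¹ = y; group⟩
        have h : y * z = z * y := congrArg Subtype.val (mem_center_iff.1 hzc ⟨y, hy⟩)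
        rw [← hd] at h
        calc d⁻¹ * y * d * t = d⁻¹ * (y * (d * t * d⁻¹)) * d := by group
          _ = d⁻¹ * (d * t * d⁻¹ * y) * d := by rw [h]
          _ = t * (d⁻¹ * y * d) := by group
      have := card_dvd_of_le hle
      rwa [card_map_of_injective (MulAut.conj d).injective, Nat.card_congr e.toEquiv,
        Nat.card_eq_fintype_card (α := H), GL23.card_eq] at this
    have hST : T' = (S : Subgroup G) := eq_of_le_of_card_ge hS (by
      obtain ⟨n, hn⟩ := IsPGroup.iff_card.1 S.2
      rw [hn] at hSC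
      rw [hn, hT16]
      have hle : n ≤ 4 := by
        by_contra hlt
        have h32 : 2 ^ 5 ∣ 48 := (pow_dvd_pow 2 (by omega)).trans hSC
        norm_num at h32
      calc 2 ^ n ≤ 2 ^ 4 := Nat.pow_le_pow_right (by norm_num) hle
        _ = 16 := rfl)
    have hSN : (S : Subgroup G) ≤ N := hST ▸ (map_subtype_le _).trans hCN
    have hmem : ∀ g : G, g ∈ N ⊔ pResidual 2 G := fun g => mem_sup_right (hO ▸ mem_top g)
    obtain ⟨k, hk⟩ : ∃ k, N.index = k ∧ ¬ 2 ∣ k :=
      ⟨N.index, rfl, fun h => S.not_dvd_index (h.trans (index_dvd_of_le hSN))⟩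
    let S' : Sylow 2 N := S.subtype hSN
    have hfr := Sylow.normalizer_sup_eq_top S'
    rw [Sylow.coe_subtype, map_subgroupOf_eq_of_le hSN] at hfr
    -- the normalizer of `S` fixes its central involution
    refine top_unique (hfr ▸ sup_le ?_ le_rfl)
    intro g hg
    have htS : t ∈ (S : Subgroup G) := by
      obtain ⟨T₀, hT₀⟩ := ((IsPGroup.iff_card (p := 2)).2 ⟨1, by
        rw [Nat.card_zpowers, orderOf_mk, ht, pow_one]⟩ :
          IsPGroup 2 (zpowers (⟨t, htC⟩ : C))).exists_le_sylow
      obtain ⟨c, hc⟩ := MulAction.exists_smul_eq C T₀ T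
      rw [← hST, hT']
      refine ⟨⟨t, htC⟩, ?_, rfl⟩
      have h := Subgroup.smul_mem_pointwise_smul _ (MulAut.conj c) _ (hT₀ (mem_zpowers _))
      have he : MulAut.conj c • (⟨t, htC⟩ : C) = ⟨t, htC⟩ := Subtype.ext (by
        show (c : G) * t * (c : G)⁻¹ = t
        rw [mem_centralizer_singleton_iff.1 c.2, mul_inv_cancel_right])
      rw [he] at h
      rw [← hc]
      exact h
    have hzt : z = t := by
      by_contra hne
      obtain ⟨b, hb⟩ := hsurj z (mem_centralizer_singleton_iff.2
        (congrArg Subtype.val (mem_center_iff.1 hzc ⟨t, htS⟩)).symm)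
      have hSC' : (S : Subgroup G) ≤ C ⊓ centralizer ({z} : Set G) := fun y hy =>
        ⟨(hST ▸ (hST.ge hy) : y ∈ T') |> fun h => map_subtype_le _ h,
          mem_centralizer_singleton_iff.2 (congrArg Subtype.val (mem_center_iff.1 hzc ⟨y, hy⟩))⟩
      have hb2 : b * b = 1 := hι (by
        rw [map_mul, map_one, hb, ← sq, ← hz, pow_orderOf_eq_one])
      have hb1 : b ≠ 1 := fun h => by rw [← hb, h, map_one, orderOf_one] at hz; omega
      have hbn : b ≠ negOne := fun h => hne (by rw [← hb, h, hιt])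
      have h16 := card_dvd_of_le hSC'
      rw [← hST, hT16] at h16
      have hcl : C ⊓ centralizer ({z} : Set G) ≤ (centralizer ({b} : Set H)).map ι := by
        intro y hy
        obtain ⟨a, rfl⟩ := hsurj y hy.1
        exact ⟨a, mem_centralizer_singleton_iff.2 (hι (by
          rw [map_mul, map_mul, hb]; exact mem_centralizer_singleton_iff.1 hy.2)), rfl⟩
      have h16' := h16.trans (card_dvd_of_le hcl)
      rw [card_map_of_injective hι] at h16'
      have hcount : Nat.card (centralizer ({b} : Set H)) = els.countP (fun a => a * b = b * a) := by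
        rw [List.countP_eq_length_filter,
          ← List.toFinset_card_of_nodup (GL23.nodup_els.filter _), ← Nat.card_eq_finsetCard]
        refine Nat.card_congr (Equiv.subtypeEquivRight fun a => ?_)
        rw [List.mem_toFinset, List.mem_filter, decide_eq_true_eq, mem_centralizer_singleton_iff]
        exact ⟨fun h => ⟨mem_els a, h⟩, fun h => h.2⟩
      rw [hcount] at h16'
      have key : ∀ b ∈ els, b * b = 1 → b ≠ 1 → b ≠ negOne →
          ¬ 16 ∣ els.countP (fun a => a * b = b * a) := by decide +kernel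
      exact key b (mem_els b) hb2 hb1 hbn h16'
    subst hzt
    have hgS : g * z * g⁻¹ ∈ (S : Subgroup G) := (mem_normalizer_iff.1 hg z).1 hzS
    refine hCN (mem_centralizer_singleton_iff.2 ?_)
    -- `z` is the only central involution of `S`
    have hgc : ∀ y ∈ (S : Subgroup G), y * (g * z * g⁻¹) = g * z * g⁻¹ * y := by
      intro y hy
      have h' : g⁻¹ * y * g ∈ (S : Subgroup G) := by
        rw [mem_normalizer_iff.1 hg, show g * (g⁻¹ * y * g) * g⁻¹ = y by group]
        exact hy
      have := congrArg Subtype.val (mem_center_iff.1 hzc ⟨_, h'⟩)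
      calc y * (g * z * g⁻¹) = g * ((g⁻¹ * y * g) * z) * g⁻¹ := by group
        _ = g * (z * (g⁻¹ * y * g)) * g⁻¹ := by rw [show g⁻¹ * y * g * z = z * (g⁻¹ * y * g) from this]
        _ = g * z * g⁻¹ * y := by group
    obtain ⟨b, hb⟩ := hsurj (g * z * g⁻¹)
      (mem_centralizer_singleton_iff.2 (hgc z hzS).symm)
    by_contra hne
    have hgz : g * z * g⁻¹ ≠ z := fun h => hne (mul_inv_eq_iff_eq_mul.1 h)
    have hb2 : b * b = 1 := hι (by
      rw [map_mul, map_one, hb, ← sq, conj_pow, show z ^ 2 = 1 by rw [← hz, pow_orderOf_eq_one],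
        mul_one, mul_inv_cancel])
    have hb1 : b ≠ 1 := fun h => by
      rw [h, map_one] at hb
      rw [conj_eq_one_iff.1 hb.symm, orderOf_one] at hz; omega
    have hbn : b ≠ negOne := fun h => hgz (by rw [← hb, h, hιt])
    have hcl : (S : Subgroup G) ≤ (centralizer ({b} : Set H)).map ι := by
      intro y hy
      obtain ⟨a, rfl⟩ := hsurj y (map_subtype_le _ (hST.ge hy : y ∈ T'))
      exact ⟨a, mem_centralizer_singleton_iff.2 (hι (by
        rw [map_mul, map_mul, hb]; exact hgc _ hy)), rfl⟩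
    have h16' := card_dvd_of_le hcl
    rw [← hST, hT16, card_map_of_injective hι] at h16'
    have hcount : Nat.card (centralizer ({b} : Set H)) = els.countP (fun a => a * b = b * a) := by
      rw [List.countP_eq_length_filter,
        ← List.toFinset_card_of_nodup (GL23.nodup_els.filter _), ← Nat.card_eq_finsetCard]
      refine Nat.card_congr (Equiv.subtypeEquivRight fun a => ?_)
      rw [List.mem_toFinset, List.mem_filter, decide_eq_true_eq, mem_centralizer_singleton_iff]
      exact ⟨fun h => ⟨mem_els a, h⟩, fun h => h.2⟩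
    rw [hcount] at h16'
    have key : ∀ b ∈ els, b * b = 1 → b ≠ 1 → b ≠ negOne →
        ¬ 16 ∣ els.countP (fun a => a * b = b * a) := by decide +kernel
    exact key b (mem_els b) hb2 hb1 hbn h16'
  · refine Or.inl (le_bot_iff.1 (hObot ▸ ?_))
    exact CfsgLib.Base.le_oddCore (Nat.not_even_iff_odd.1 fun h => hev (even_iff_two_dvd.1 h))

end CfsgLib.Small.L33
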