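import Cfsg.Agent.Lib.Small.L33.ThreeCentral

/-!
# Groups of order 5616: the Sylow 3-subgroup and a subgroup of index thirteen
-/

set_option autoImplicit false
set_option linter.style.haveILetI false
set_option linter.unusedSectionVars false

open Subgroup

namespace CfsgLib.Small.L33

variable {G : Type*} [Group G] [Finite G]

theorem conj_eq_iff_commute {w y : G} : w * y * w⁻¹ = y ↔ Commute w y :=
  mul_inv_eq_iff_eq_mul

/-- An involution conjugation squares to the identity. -/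
theorem conj_conj {w y : G} (hw : w * w = 1) : w * (w * y * w⁻¹) * w⁻¹ = y := by
  rw [show w * (w * y * w⁻¹) * w⁻¹ = (w * w) * y * (w * w)⁻¹ by group, hw]
  simp

/-- The three-part of the centralizer of `u`. -/
structure Part (G : Type*) [Group G] (u : G) (P : Subgroup G) : Prop where
  card : Nat.card P = 27
  cardC : Nat.card (centralizer ({u} : Set G)) = 54
  le : P ≤ centralizer ({u} : Set G)
  mem : ∀ y : G, y ∈ centralizer ({u} : Set G) → y ^ 27 = 1 → y ∈ P

namespace Base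

variable {t u s : G} (B : Base G t u s) {P : Subgroup G} (hP : Part G u P)

include B hP

theorem pow_27 {y : G} (hy : y ∈ P) : y ^ 27 = 1 :=
  orderOf_dvd_iff_pow_eq_one.1 (hP.card ▸ orderOf_dvd_natCard _ hy)

theorem u_mem : u ∈ P :=
  hP.mem u (mem_centralizer_singleton_iff.2 rfl)
    (by rw [show 27 = 3 * 9 from rfl, pow_mul, B.u3, one_pow])

theorem commute_u {y : G} (hy : y ∈ P) : Commute y u := mem_centralizer_singleton_iff.1 (hP.le hy)

theorem conj_mem_part {w : G} (hw : w * u * w⁻¹ = u ∨ w * u * w⁻¹ = u⁻¹) {y : G} (hy : y ∈ P) :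
    w * y * w⁻¹ ∈ P := by
  refine hP.mem _ (mem_centralizer_singleton_iff.2 ?_)
    (by rw [conj_pow, B.pow_27 hP hy, mul_one, mul_inv_cancel])
  have hc := B.commute_u hP hy
  rcases hw with h | h
  · have := hc.map (MulAut.conj w)
    simp only [MulAut.conj_apply, h] at this
    exact this.eq
  · have := (hc.map (MulAut.conj w)).inv_right
    simp only [MulAut.conj_apply, h, inv_inv] at this
    exact this.eq

theorem u_fix : t * u * t⁻¹ = u := conj_eq_iff_commute.2 B.cut.symm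

theorem card_inf_le {w : G} (hw : orderOf w = 2) :
    Nat.card (P ⊓ centralizer ({w} : Set G) : Subgroup G) ≤ 3 :=
  Nat.le_of_dvd (by norm_num) (B.card_inf_dvd (by rw [hP.card]) hw)

theorem inf_t : zpowers u = P ⊓ centralizer ({t} : Set G) :=
  eq_of_le_of_card_ge (zpowers_le.2 ⟨B.u_mem hP, mem_centralizer_singleton_iff.2 B.cut.eq⟩)
    (by rw [Nat.card_zpowers, B.ou]; exact B.card_inf_le hP B.ot)

theorem mem_zpowers_u {y : G} (hy : y ∈ P) (h : Commute y t) : y ∈ zpowers u :=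
  (B.inf_t hP).ge ⟨hy, mem_centralizer_singleton_iff.2 h.eq⟩

theorem orderOf_fix {y w : G} (hy : y ∈ P) (hy1 : y ≠ 1) (hw : orderOf w = 2)
    (h : Commute y w) : orderOf y = 3 := by
  have := (orderOf_dvd_natCard _ (show y ∈ P ⊓ centralizer ({w} : Set G) from
    ⟨hy, mem_centralizer_singleton_iff.2 h.eq⟩)).trans (B.card_inf_dvd (by rw [hP.card]) hw)
  rcases (Nat.dvd_prime Nat.prime_three).1 this with h' | h'
  exacts [absurd (orderOf_eq_one_iff.1 h') hy1, h']

/-- `s` fixes no nontrivial power of `u`. -/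
theorem not_fix {v : G} (hv1 : v ≠ 1) (hvu : v ∈ zpowers u) (hvs : Commute v s) : False := by
  obtain ⟨j, rfl⟩ := mem_zpowers_iff.1 hvu
  have h2 : s * u ^ j * s⁻¹ = (u ^ j)⁻¹ := by rw [← conj_zpow, B.inv, inv_zpow]
  rw [conj_eq_iff_commute.2 hvs.symm, eq_inv_iff_mul_eq_one, ← sq] at h2
  have h3 : (u ^ j) ^ 3 = 1 := by
    rw [← zpow_natCast, ← zpow_mul, mul_comm, zpow_mul, zpow_natCast, B.u3, one_zpow]
  rw [pow_succ, h2, one_mul] at h3
  exact hv1 h3

/-- The elements of `P` normalizing it and permuting the three involutions cyclically. -/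
theorem no_cycle [IsSimpleGroup G] {h : G} (hN : h ∈ normalizer (P : Set G))
    (h1 : h * t * h⁻¹ = t * s) (h2 : h * (t * s) * h⁻¹ = s) : False := by
  haveI := Fact.mk Nat.prime_three
  have h3 : h * s * h⁻¹ = t := by
    have e : s = t * (t * s) := by rw [← mul_assoc, B.tt, one_mul]
    calc h * s * h⁻¹ = (h * t * h⁻¹) * (h * (t * s) * h⁻¹) := by
          conv_lhs => rw [e]
          group
      _ = t := by rw [h1, h2, mul_assoc, B.ss, mul_one]
  obtain ⟨a, r, hr, hm⟩ := Nat.exists_eq_pow_mul_and_not_dvd (orderOf_pos h).ne' 3 (by norm_num)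
  set g := h ^ r with hg
  have hg3 : g ^ 3 ^ a = 1 := by rw [hg, ← pow_mul, mul_comm, ← hm, pow_orderOf_eq_one]
  have hgN : g ∈ normalizer (P : Set G) := pow_mem hN r
  let PS : Sylow 3 G := Sylow.ofCard P (by
    rw [hP.card, B.card, show 5616 = 3 ^ 3 * 208 by norm_num,
      Nat.factorization_mul (by norm_num) (by norm_num), Nat.factorization_pow]
    simp [Nat.factorization_eq_zero_of_not_dvd (show ¬ 3 ∣ 208 by norm_num),
      Nat.Prime.factorization_self Nat.prime_three])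
  have hPS : (PS : Subgroup G) = P := Sylow.coe_ofCard _ _
  have hpg : IsPGroup 3 (zpowers g) := by
    intro z
    obtain ⟨k, hk⟩ := mem_zpowers_iff.1 z.2
    refine ⟨a, Subtype.ext ?_⟩
    rw [coe_pow, coe_one, ← hk, ← zpow_natCast, ← zpow_mul, mul_comm, zpow_mul, zpow_natCast, hg3,
      one_zpow]
  have hgP : g ∈ P := by
    have h := (hpg.inf_normalizer_sylow PS).le
      ⟨mem_zpowers g, show g ∈ normalizer ((PS : Subgroup G) : Set G) by rw [hPS]; exact hgN⟩
    rw [hPS] at h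
    exact h.2
  have hper : ∀ m : ℕ, h ^ (3 * m) * t * (h ^ (3 * m))⁻¹ = t := by
    intro m
    induction m with
    | zero => simp
    | succ m ih =>
      calc h ^ (3 * (m + 1)) * t * (h ^ (3 * (m + 1)))⁻¹
          = h * (h * (h * (h ^ (3 * m) * t * (h ^ (3 * m))⁻¹) * h⁻¹) * h⁻¹) * h⁻¹ := by
            rw [show 3 * (m + 1) = 3 + 3 * m by ring, pow_add]; simp [pow_succ, mul_assoc]
        _ = t := by rw [ih, h1, h2, h3]
  have hgt : g * t * g⁻¹ = s ∨ g * t * g⁻¹ = t * s := by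
    have e : g * t * g⁻¹ = h ^ (r % 3) * t * (h ^ (r % 3))⁻¹ := by
      have hd : g = h ^ (r % 3) * h ^ (3 * (r / 3)) := by
        rw [← pow_add, Nat.mod_add_div]
      calc g * t * g⁻¹ = h ^ (r % 3) * (h ^ (3 * (r / 3)) * t * (h ^ (3 * (r / 3)))⁻¹) *
            (h ^ (r % 3))⁻¹ := by rw [hd]; group
        _ = _ := by rw [hper]
    rw [e]
    rcases (show r % 3 = 1 ∨ r % 3 = 2 by omega) with h' | h' <;> rw [h']
    · rw [pow_one]; exact Or.inr h1
    · left
      rw [show h ^ 2 * t * (h ^ 2)⁻¹ = h * (h * t * h⁻¹) * h⁻¹ by rw [sq]; group, h1, h2]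
  have hP' : g * (t * g⁻¹ * t⁻¹) ∈ P :=
    mul_mem hgP (B.conj_mem_part hP (Or.inl (B.u_fix hP)) (inv_mem hgP))
  rw [show g * (t * g⁻¹ * t⁻¹) = g * t * g⁻¹ * t⁻¹ by group, B.inv_t] at hP'
  have ho : orderOf (g * t * g⁻¹ * t) = 2 := by
    rcases hgt with h' | h' <;> rw [h']
    · rw [B.cst.eq]; exact B.order_ts
    · rw [mul_assoc, B.cst.eq, ← mul_assoc, B.tt, one_mul]; exact B.os
  have := orderOf_dvd_natCard _ hP'
  rw [ho, hP.card] at this
  norm_num at this

/-- In an abelian `P` some element of the normalizer exchanges `t` and `s`. -/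
theorem exists_exchange [IsSimpleGroup G] (hab : ∀ a ∈ P, ∀ b ∈ P, Commute a b) :
    ∃ h ∈ normalizer (P : Set G), h * t * h⁻¹ = s ∧ h * s * h⁻¹ = t := by
  classical
  have htu := B.u_fix hP
  -- a nontrivial element centralized by `s`
  obtain ⟨v, hvP, hv1, hvs⟩ : ∃ v ∈ P, v ≠ 1 ∧ Commute v s := by
    by_contra hcon
    push Not at hcon
    let A (w : G) : Subgroup G := P ⊓ centralizer ({w} : Set G)
    have hA : Nat.card (A s) = 1 := by
      rw [card_eq_one, eq_bot_iff_forall]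
      intro x hx
      by_contra hx1
      exact hcon x hx.1 hx1 (mem_centralizer_singleton_iff.1 hx.2)
    have hmap : ∀ x : (A t × A (t * s)), (x.1 : G) * x.2 ∈ P := fun x => mul_mem x.1.2.1 x.2.2.1
    have hsurj : Function.Surjective (fun x : A t × A (t * s) => (⟨_, hmap x⟩ : P)) := by
      rintro ⟨y, hy⟩
      set z := y ^ 7 with hz
      have hzP : z ∈ P := pow_mem hy 7
      have htz := B.conj_mem_part hP (Or.inl htu) hzP
      set q := z * (t * z * t⁻¹) with hq
      set i := z * (t * z * t⁻¹)⁻¹ with hi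
      have hqP : q ∈ P := mul_mem hzP htz
      have hiP : i ∈ P := mul_mem hzP (inv_mem htz)
      have hqt : Commute t q := by
        rw [← conj_eq_iff_commute, hq]
        calc t * (z * (t * z * t⁻¹)) * t⁻¹ = t * z * t⁻¹ * (t * (t * z * t⁻¹) * t⁻¹) := by group
          _ = q := by rw [conj_conj B.tt, hq, (hab _ hzP _ htz).eq]
      have hit : t * i * t⁻¹ = i⁻¹ := by
        calc t * i * t⁻¹ = t * z * t⁻¹ * (t * (t * z * t⁻¹) * t⁻¹)⁻¹ := by rw [hi]; group
          _ = i⁻¹ := by rw [conj_conj B.tt, hi, _root_.mul_inv_rev, inv_inv]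
      have hsi : s * i * s⁻¹ = i⁻¹ := by
        have hsiP := B.conj_mem_part hP (Or.inr B.inv) hiP
        have h1 : i * (s * i * s⁻¹) = 1 := by
          by_contra hne
          refine hcon _ (mul_mem hiP hsiP) hne ?_
          refine (conj_eq_iff_commute.1 ?_).symm
          calc s * (i * (s * i * s⁻¹)) * s⁻¹ = s * i * s⁻¹ * (s * (s * i * s⁻¹) * s⁻¹) := by group
            _ = _ := by rw [conj_conj B.ss, (hab _ hiP _ hsiP).eq]
        exact eq_inv_of_mul_eq_one_right h1
      have hits : Commute (t * s) i := by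
        rw [← conj_eq_iff_commute]
        calc t * s * i * (t * s)⁻¹ = t * (s * i * s⁻¹) * t⁻¹ := by group
          _ = i := by rw [hsi, ← conj_inv, hit, inv_inv]
      refine ⟨⟨⟨q ^ 2, pow_mem hqP 2, mem_centralizer_singleton_iff.2 (hqt.pow_right 2).symm.eq⟩,
        ⟨i ^ 2, pow_mem hiP 2, mem_centralizer_singleton_iff.2 (hits.pow_right 2).symm.eq⟩⟩, ?_⟩
      refine Subtype.ext ?_
      show q ^ 2 * i ^ 2 = y
      have hqi : q * i = z ^ 2 := by
        rw [hq, hi, (hab _ hzP _ htz).eq, mul_assoc, ← mul_assoc z z, ← mul_assoc (t * z * t⁻¹),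
          (hab _ htz _ (mul_mem hzP hzP)).eq, mul_inv_cancel_right, sq]
      rw [← (hab _ hqP _ hiP).mul_pow, hqi, hz, ← pow_mul, ← pow_mul,
        show 7 * (2 * 2) = 27 + 1 from rfl, pow_succ, B.pow_27 hP hy, one_mul]
    have h27 := Nat.card_le_card_of_surjective _ hsurj
    rw [hP.card, Nat.card_prod] at h27
    have h9 : Nat.card (A t) * Nat.card (A (t * s)) ≤ 3 * 3 :=
      Nat.mul_le_mul (B.card_inf_le hP B.ot) (B.card_inf_le hP B.order_ts)
    omega
  have hov := B.orderOf_fix hP hvP hv1 B.os hvs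
  obtain ⟨g, hg⟩ := isConj_iff.1 (B.conj_u hov B.os hvs).symm
  -- `g` normalizes `P`
  have hgP : ∀ y ∈ P, g * y * g⁻¹ ∈ P := fun y hy => hP.mem _ (mem_centralizer_singleton_iff.2 (by
      have := (hab y hy v hvP).map (MulAut.conj g)
      simp only [MulAut.conj_apply, hg] at this
      exact this.eq))
    (by rw [conj_pow, B.pow_27 hP hy, mul_one, mul_inv_cancel])
  have hnorm : ∀ w : G, (∀ y ∈ P, w * y * w⁻¹ ∈ P) → w ∈ normalizer (P : Set G) := by
    intro w hw
    have heq : P.map (MulAut.conj w).toMonoidHom = P := by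
      refine eq_of_le_of_card_ge ?_ ?_
      · rintro _ ⟨y, hy, rfl⟩
        exact hw y hy
      · rw [card_map_of_injective (MulAut.conj w).injective]
    rw [mem_normalizer_iff]
    intro y
    refine ⟨hw y, fun hy => ?_⟩
    rw [← heq] at hy
    obtain ⟨y', hy', he⟩ := hy
    rwa [← (MulAut.conj w).injective he]
  -- the image of `s` is conjugate to `t` under `P`
  set x := g * s * g⁻¹ with hx
  have hox : x * x = 1 := by rw [hx, ← sq, conj_pow, sq, B.ss, mul_one, mul_inv_cancel]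
  have hxu : Commute x u := by
    have := hvs.map (MulAut.conj g)
    simp only [MulAut.conj_apply, hg] at this
    exact this.symm
  have hxP : x ∉ P := fun h => by
    have := orderOf_dvd_natCard _ h
    rw [hx, show g * s * g⁻¹ = MulAut.conj g s from rfl, MulEquiv.orderOf_eq, B.os, hP.card] at this
    norm_num at this
  set C := centralizer ({u} : Set G) with hC
  have hidx : (P.subgroupOf C).index = 2 := by
    have h := (P.subgroupOf C).card_mul_index
    rw [Nat.card_congr (subgroupOfEquivOfLe hP.le).toEquiv, hP.card, hP.cardC] at h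
    omega
  have htP : t ∉ P := fun h => by
    have := orderOf_dvd_natCard _ h
    rw [B.ot, hP.card] at this
    norm_num at this
  have hxt : x * t ∈ P := by
    have hxC : x ∈ C := mem_centralizer_singleton_iff.2 hxu.eq
    have htC : t ∈ C := mem_centralizer_singleton_iff.2 B.cut.symm.eq
    have h := (mul_mem_iff_of_index_two hidx (a := (⟨x, hxC⟩ : C)) (b := ⟨t, htC⟩)).2
      (iff_of_false (fun h => hxP h) (fun h => htP h))
    exact h
  set q := (x * t) ^ 14 with hq
  have hqP : q ∈ P := pow_mem hxt 14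
  have htq : t * q * t⁻¹ = q⁻¹ := by
    rw [hq, ← conj_pow, ← inv_pow, _root_.mul_inv_rev, B.inv_t, inv_eq_of_mul_eq_one_right hox]
    simp [mul_assoc, B.tt]
  have hqt : q⁻¹ * x * q = t := by
    have hq2 : q * q = x * t := by
      rw [← sq, hq, ← pow_mul, show 14 * 2 = 27 + 1 from rfl, pow_succ, B.pow_27 hP hxt, one_mul]
    have hx' : x = q * q * t := by rw [hq2, mul_assoc, B.tt, mul_one]
    calc q⁻¹ * x * q = q * (t * q * t⁻¹) * t := by rw [hx']; group
      _ = t := by rw [htq, mul_inv_cancel, one_mul]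
  set h₀ := q⁻¹ * g with hh₀
  have hh₀P : ∀ y ∈ P, h₀ * y * h₀⁻¹ ∈ P := fun y hy => by
    rw [hh₀, show q⁻¹ * g * y * (q⁻¹ * g)⁻¹ = q⁻¹ * (g * y * g⁻¹) * q by group]
    exact mul_mem (mul_mem (inv_mem hqP) (hgP y hy)) hqP
  have hh₀s : h₀ * s * h₀⁻¹ = t := by
    rw [hh₀, ← hqt, hx]; group
  have hh₀v : h₀ * v * h₀⁻¹ = u := by
    rw [hh₀, show q⁻¹ * g * v * (q⁻¹ * g)⁻¹ = q⁻¹ * (g * v * g⁻¹) * q by group, hg,
      mul_assoc, ← (B.commute_u hP hqP).eq, inv_mul_cancel_left]
  -- `t` inverts `v`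
  have htv : t * v * t⁻¹ = v⁻¹ := by
    have hm : t * v * t⁻¹ ∈ P ⊓ centralizer ({s} : Set G) :=
      ⟨B.conj_mem_part hP (Or.inl htu) hvP, mem_centralizer_singleton_iff.2 (by
        have := hvs.map (MulAut.conj t)
        simp only [MulAut.conj_apply, conj_eq_iff_commute.2 B.cst.symm] at this
        exact this.eq)⟩
    have heq : zpowers v = P ⊓ centralizer ({s} : Set G) :=
      eq_of_le_of_card_ge (zpowers_le.2 ⟨hvP, mem_centralizer_singleton_iff.2 hvs.eq⟩)
        (by rw [Nat.card_zpowers, hov]; exact B.card_inf_le hP B.os)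
    rw [← heq] at hm
    rcases mem_zpowers_three hov hm with h | h | h
    · exact absurd (conj_eq_one_iff.1 h) hv1
    · exfalso
      exact B.not_fix hP hv1 (B.mem_zpowers_u hP hvP (conj_eq_iff_commute.1 h).symm) hvs
    · exact h
  set x₂ := h₀ * t * h₀⁻¹ with hx₂
  have hx₂o : orderOf x₂ = 2 := by
    rw [hx₂, show h₀ * t * h₀⁻¹ = MulAut.conj h₀ t from rfl, MulEquiv.orderOf_eq, B.ot]
  have hx₂t : Commute x₂ t := by
    have := B.cst.symm.map (MulAut.conj h₀)
    simp only [MulAut.conj_apply, hh₀s] at this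
    exact this
  have hx₂u : x₂ * u * x₂⁻¹ = u⁻¹ := by
    rw [hx₂, ← hh₀v]
    calc h₀ * t * h₀⁻¹ * (h₀ * v * h₀⁻¹) * (h₀ * t * h₀⁻¹)⁻¹ = h₀ * (t * v * t⁻¹) * h₀⁻¹ := by group
      _ = (h₀ * v * h₀⁻¹)⁻¹ := by rw [htv, conj_inv]
  obtain ⟨k, hk⟩ := B.inverting x₂ hx₂o hx₂t hx₂u
  set h := u ^ k * h₀ with hh
  have hhN : h ∈ normalizer (P : Set G) := hnorm h fun y hy => by
    rw [hh, show u ^ k * h₀ * y * (u ^ k * h₀)⁻¹ = u ^ k * (h₀ * y * h₀⁻¹) * (u ^ k)⁻¹ by group]
    exact mul_mem (mul_mem (pow_mem (B.u_mem hP) k) (hh₀P y hy)) (inv_mem (pow_mem (B.u_mem hP) k))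
  have hhs : h * s * h⁻¹ = t := by
    rw [hh, show u ^ k * h₀ * s * (u ^ k * h₀)⁻¹ = u ^ k * (h₀ * s * h₀⁻¹) * (u ^ k)⁻¹ by group,
      hh₀s, conj_eq_iff_commute.2 (B.cut.pow_left k)]
  have hht : h * t * h⁻¹ = u ^ k * x₂ * (u ^ k)⁻¹ := by rw [hh, hx₂]; group
  rcases hk with hk | hk
  · exact ⟨h, hhN, hht.trans hk, hhs⟩
  · exfalso
    refine B.no_cycle hP hhN (hht.trans hk) ?_
    rw [show h * (t * s) * h⁻¹ = h * t * h⁻¹ * (h * s * h⁻¹) by group, hht, hk, hhs, mul_assoc,
      B.cst.eq, ← mul_assoc, B.tt, one_mul]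

/-- `P` is not abelian. -/
theorem not_abelian_part [IsSimpleGroup G] : ¬ ∀ a ∈ P, ∀ b ∈ P, Commute a b := by
  intro hab
  obtain ⟨h₁, hN₁, h1t, h1s⟩ := B.exists_exchange hP hab
  obtain ⟨h₂, hN₂, h2t, h2s⟩ := B.swap.exists_exchange hP hab
  refine B.no_cycle hP (mul_mem hN₁ hN₂) ?_ ?_
  · rw [show h₁ * h₂ * t * (h₁ * h₂)⁻¹ = h₁ * (h₂ * t * h₂⁻¹) * h₁⁻¹ by group, h2t,
      show h₁ * (t * s) * h₁⁻¹ = h₁ * t * h₁⁻¹ * (h₁ * s * h₁⁻¹) by group, h1t, h1s, B.cst.eq]
  · rw [show h₁ * h₂ * (t * s) * (h₁ * h₂)⁻¹ = h₁ * (h₂ * (t * s) * h₂⁻¹) * h₁⁻¹ by group, h2s,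
      h1t]

/-- The central elements of `P` are the powers of `u`, and commutators lie among them. -/
theorem part_center [IsSimpleGroup G] :
    (∀ z ∈ P, (∀ y ∈ P, Commute y z) → z ∈ zpowers u) ∧
      ∀ a ∈ P, ∀ b ∈ P, a * b * a⁻¹ * b⁻¹ ∈ zpowers u := by
  classical
  haveI := Fact.mk Nat.prime_three
  set Z := center P with hZ
  have huZ : (⟨u, B.u_mem hP⟩ : P) ∈ Z :=
    mem_center_iff.2 fun y => Subtype.ext (B.commute_u hP y.2).eq
  have hd : Nat.card Z ∣ 3 ^ 3 := by
    have := card_subgroup_dvd_card Z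
    rwa [hP.card] at this
  obtain ⟨k, hk, hkc⟩ := (Nat.dvd_prime_pow Nat.prime_three).1 hd
  have h3 : 3 ∣ Nat.card Z := by
    have := orderOf_dvd_natCard _ huZ
    rwa [orderOf_mk, B.ou] at this
  have hidx := Z.card_mul_index
  rw [hP.card] at hidx
  have hZ3 : Nat.card Z = 3 := by
    by_contra hne
    have hk2 : 2 ≤ k := by
      by_contra hlt
      interval_cases k <;> simp_all
    have hi3 : Z.index = 1 ∨ Z.index = 3 := by
      interval_cases k <;> rw [hkc] at hidx <;> omega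
    refine B.not_abelian_part hP fun a ha b hb => ?_
    haveI : IsCyclic (P ⧸ Z) := by
      rcases hi3 with h | h
      · haveI : Subsingleton (P ⧸ Z) := (Nat.card_eq_one_iff_unique.1 h).1
        infer_instance
      · exact isCyclic_of_prime_card (p := 3) h
    exact congrArg Subtype.val (commutative_of_cyclic_center_quotient (QuotientGroup.mk' Z)
      (by rw [QuotientGroup.ker_mk']) (⟨a, ha⟩ : P) ⟨b, hb⟩)
  have hZu : zpowers (⟨u, B.u_mem hP⟩ : P) = Z := eq_of_le_of_card_ge (zpowers_le.2 huZ)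
    (by rw [Nat.card_zpowers, orderOf_mk, B.ou, hZ3])
  have hback : ∀ y : P, y ∈ Z → (y : G) ∈ zpowers u := by
    intro y hy
    rw [← hZu] at hy
    obtain ⟨j, rfl⟩ := mem_zpowers_iff.1 hy
    exact mem_zpowers_iff.2 ⟨j, (SubgroupClass.coe_zpow (⟨u, B.u_mem hP⟩ : P) j).symm⟩
  refine ⟨fun z hz hc => hback ⟨z, hz⟩ (mem_center_iff.2 fun y => Subtype.ext (hc y.1 y.2).eq),
    fun a ha b hb => hback (⟨a, ha⟩ * ⟨b, hb⟩ * ⟨a, ha⟩⁻¹ * ⟨b, hb⟩⁻¹) ?_⟩
  have hq : Nat.card (P ⧸ Z) = 3 ^ 2 := by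
    show Z.index = 3 ^ 2
    rw [hZ3] at hidx
    omega
  haveI : IsMulCommutative (P ⧸ Z) := IsPGroup.isMulCommutative_of_card_eq_prime_sq hq
  rw [← QuotientGroup.eq_one_iff, QuotientGroup.mk_mul, QuotientGroup.mk_mul, QuotientGroup.mk_mul,
    QuotientGroup.mk_inv, QuotientGroup.mk_inv, mul_comm' ((⟨a, ha⟩ : P) : P ⧸ Z),
    mul_inv_cancel_right, mul_inv_cancel]

/-- `t` inverts `P` modulo the powers of `u`. -/
theorem t_inverts [IsSimpleGroup G] {y : G} (hy : y ∈ P) : t * y * t⁻¹ * y ∈ zpowers u := by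
  have hty := B.conj_mem_part hP (Or.inl (B.u_fix hP)) hy
  set q := t * y * t⁻¹ * y with hq
  set c := y * (t * y * t⁻¹) * y⁻¹ * (t * y * t⁻¹)⁻¹ with hc
  have hcZ : c ∈ zpowers u := (B.part_center hP).2 y hy _ hty
  have htc : t * c * t⁻¹ = c := by
    obtain ⟨j, hj⟩ := mem_zpowers_iff.1 hcZ
    rw [← hj]
    exact conj_eq_iff_commute.2 (B.cut.zpow_left j).symm
  have hcq : t * q * t⁻¹ = c * q := by
    rw [hq, hc, show t * (t * y * t⁻¹ * y) * t⁻¹ = t * (t * y * t⁻¹) * t⁻¹ * (t * y * t⁻¹) by group,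
      conj_conj B.tt]
    group
  have hc2 : c * c = 1 := by
    have h := conj_conj (y := q) B.tt
    rw [hcq, show t * (c * q) * t⁻¹ = t * c * t⁻¹ * (t * q * t⁻¹) by group, htc, hcq,
      ← mul_assoc] at h
    exact mul_eq_right.1 h
  have hc1 : c = 1 := by
    obtain ⟨j, hj⟩ := mem_zpowers_iff.1 hcZ
    have h3 : c ^ 3 = 1 := by
      rw [← hj, ← zpow_natCast, ← zpow_mul, mul_comm, zpow_mul, zpow_natCast, B.u3, one_zpow]
    rwa [pow_succ, sq, hc2, one_mul] at h3
  rw [hc1, one_mul] at hcq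
  exact B.mem_zpowers_u hP (mul_mem hty hy) (conj_eq_iff_commute.1 hcq).symm

/-- `P` has exponent three. -/
theorem part_exponent [IsSimpleGroup G] {y : G} (hy : y ∈ P) : y ^ 3 = 1 := by
  obtain ⟨hcen, hcom⟩ := B.part_center hP
  have hu3 : ∀ z ∈ zpowers u, z ^ 3 = 1 := fun z hz => by
    obtain ⟨j, rfl⟩ := mem_zpowers_iff.1 hz
    rw [← zpow_natCast, ← zpow_mul, mul_comm, zpow_mul, zpow_natCast, B.u3, one_zpow]
  have hcu : ∀ z ∈ zpowers u, ∀ w ∈ P, Commute z w := fun z hz w hw => by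
    obtain ⟨j, rfl⟩ := mem_zpowers_iff.1 hz
    exact (B.commute_u hP hw).symm.zpow_left j
  have hy3 : y ^ 3 ∈ zpowers u := hcen _ (pow_mem hy 3) fun w hw => by
    set c := w * y * w⁻¹ * y⁻¹ with hc
    have hcZ := hcom w hw y hy
    rw [← conj_eq_iff_commute, ← conj_pow, show w * y * w⁻¹ = c * y by rw [hc]; group,
      (hcu c hcZ y hy).mul_pow, hu3 c hcZ, one_mul]
  have hd := B.t_inverts hP hy
  set d := t * y * t⁻¹ * y with hdd
  have h1 : (t * y * t⁻¹) ^ 3 = (y ^ 3)⁻¹ := by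
    rw [show t * y * t⁻¹ = d * y⁻¹ by rw [hdd]; group,
      (hcu d hd y⁻¹ (inv_mem hy)).mul_pow, hu3 d hd, one_mul, inv_pow]
  have h2 : (t * y * t⁻¹) ^ 3 = y ^ 3 := by
    obtain ⟨j, hj⟩ := mem_zpowers_iff.1 hy3
    rw [conj_pow, ← hj]
    exact conj_eq_iff_commute.2 (B.cut.zpow_left j).symm
  have h6 : (y ^ 3) ^ 2 = 1 := by
    rw [sq, ← eq_inv_iff_mul_eq_one]
    exact h2.symm.trans h1
  have h27 := B.pow_27 hP hy
  rw [show 27 = (3 * 2) * 4 + 3 from rfl, pow_add, pow_mul, pow_mul, h6, one_pow, one_mul] at h27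
  exact h27

/-- Some reflection has a nontrivial fixed point in `P`. -/
theorem exists_fixed [IsSimpleGroup G] : ∃ s' : G, Base G t u s' ∧
    ∃ v ∈ P, v ≠ 1 ∧ Commute v s' := by
  classical
  obtain ⟨hcen, hcom⟩ := B.part_center hP
  by_contra hcon
  push Not at hcon
  obtain ⟨y, hy, hyu⟩ : ∃ y ∈ P, y ∉ zpowers u := by
    by_contra h
    push Not at h
    have := Nat.le_of_dvd Nat.card_pos (card_dvd_of_le h)
    rw [hP.card, Nat.card_zpowers, B.ou] at this
    omega
  have hu_pow : ∀ z ∈ zpowers u, s * z * s⁻¹ = z⁻¹ ∧ z ^ 3 = 1 ∧ t * z * t⁻¹ = z := fun z hz => by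
    obtain ⟨j, rfl⟩ := mem_zpowers_iff.1 hz
    refine ⟨by rw [← conj_zpow, B.inv, inv_zpow], ?_, conj_eq_iff_commute.2 (B.cut.zpow_left j).symm⟩
    rw [← zpow_natCast, ← zpow_mul, mul_comm, zpow_mul, zpow_natCast, B.u3, one_zpow]
  have hsy := B.conj_mem_part hP (Or.inr B.inv) hy
  set q := s * y * s⁻¹ * y with hq
  have hqP : q ∈ P := mul_mem hsy hy
  set c := y * (s * y * s⁻¹) * y⁻¹ * (s * y * s⁻¹)⁻¹ with hc
  have hcZ : c ∈ zpowers u := hcom y hy _ hsy
  have hcq : s * q * s⁻¹ = c * q := by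
    rw [hq, hc, show s * (s * y * s⁻¹ * y) * s⁻¹ = s * (s * y * s⁻¹) * s⁻¹ * (s * y * s⁻¹) by group,
      conj_conj B.ss]
    group
  -- the corrected element is fixed by `s`
  have hq' : Commute s (c⁻¹ * q) ∧ c⁻¹ * q ∈ P := by
    have hcP : c ∈ P := (zpowers_le.2 (B.u_mem hP)) hcZ
    refine ⟨?_, mul_mem (inv_mem hcP) hqP⟩
    rw [← conj_eq_iff_commute]
    have hc3 := (hu_pow c hcZ).2.1
    calc s * (c⁻¹ * q) * s⁻¹ = (s * c * s⁻¹)⁻¹ * (s * q * s⁻¹) := by group
      _ = c * (c * q) := by rw [(hu_pow c hcZ).1, inv_inv, hcq]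
      _ = c⁻¹ * q := by
        rw [← mul_assoc]
        congr 1
        refine eq_inv_of_mul_eq_one_left ?_
        rw [← sq, ← pow_succ, hc3]
  have hq1 : c⁻¹ * q = 1 := by
    by_contra hne
    exact hcon s B _ hq'.2 hne hq'.1.symm
  have hqZ : q ∈ zpowers u := by
    rw [inv_mul_eq_one] at hq1
    rwa [← hq1]
  -- then `t * s` fixes `y` modulo the powers of `u`
  set z := t * s * y * (t * s)⁻¹ * y⁻¹ with hz
  have hzZ : z ∈ zpowers u := by
    have e : z = t * q * t⁻¹ * (y * (t * y * t⁻¹ * y) * y⁻¹)⁻¹ := by rw [hz, hq]; group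
    have hd := B.t_inverts hP hy
    have hfix : y * (t * y * t⁻¹ * y) * y⁻¹ = t * y * t⁻¹ * y := by
      obtain ⟨j, hj⟩ := mem_zpowers_iff.1 hd
      rw [← hj]
      exact conj_eq_iff_commute.2 ((B.commute_u hP hy).zpow_right j)
    rw [e, hfix, (hu_pow q hqZ).2.2]
    exact mul_mem hqZ (inv_mem (B.t_inverts hP hy))
  have hy2 : Commute (t * s) (z⁻¹ * y) := by
    rw [← conj_eq_iff_commute]
    have hz3 := (hu_pow z hzZ).2.1
    calc t * s * (z⁻¹ * y) * (t * s)⁻¹
        = (t * (s * z * s⁻¹) * t⁻¹)⁻¹ * (t * s * y * (t * s)⁻¹) := by group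
      _ = z * (z * y) := by
          rw [(hu_pow z hzZ).1, ← conj_inv, (hu_pow z hzZ).2.2, inv_inv, hz]; group
      _ = z⁻¹ * y := by
        rw [← mul_assoc]
        congr 1
        refine eq_inv_of_mul_eq_one_left ?_
        rw [← sq, ← pow_succ, hz3]
  exact hcon (t * s) B.swap (z⁻¹ * y) (mul_mem (inv_mem ((zpowers_le.2 (B.u_mem hP)) hzZ)) hy)
    (fun h => hyu (by rw [inv_mul_eq_one] at h; rwa [← h])) hy2.symm

end Base

/-- Some subgroup has index thirteen. -/
theorem Base.exists_index_thirteen [IsSimpleGroup G] {t u s : G} (B₀ : Base G t u s) :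
    ∃ N : Subgroup G, N.index = 13 := by
  classical
  haveI := Fact.mk Nat.prime_three
  obtain ⟨P, hc, hC, hle, hm⟩ := B₀.centralizer_u
  have hP : Part G u P := ⟨hc, hC, hle, hm⟩
  obtain ⟨s', B, v, hvP, hv1, hvs⟩ := B₀.exists_fixed hP
  obtain ⟨hcen, hcom⟩ := B.part_center hP
  have hov := B.orderOf_fix hP hvP hv1 B.os hvs
  have hvu : v ∉ zpowers u := fun h => B.not_fix hP hv1 h hvs
  obtain ⟨g, hg⟩ := isConj_iff.1 (B.conj_u hov B.os hvs)
  set Q := P.map (MulAut.conj g).toMonoidHom with hQ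
  have hQ27 : Nat.card Q = 27 := by
    rw [hQ, card_map_of_injective (MulAut.conj g).injective, hP.card]
  have hQC : ∀ x ∈ Q, Commute x v := by
    rintro _ ⟨y, hy, rfl⟩
    rw [← hg]
    exact (B.commute_u hP hy).map (MulAut.conj g)
  have hQmem : ∀ x : G, Commute x v → x ^ 27 = 1 → x ∈ Q := fun x hx h27 => by
    refine ⟨g⁻¹ * x * g, hP.mem _ (mem_centralizer_singleton_iff.2 ?_) ?_, ?_⟩
    · rw [← hg] at hx
      calc g⁻¹ * x * g * u = g⁻¹ * (x * (g * u * g⁻¹)) * g := by group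
        _ = g⁻¹ * ((g * u * g⁻¹) * x) * g := by rw [hx.eq]
        _ = u * (g⁻¹ * x * g) := by group
    · have h := conj_pow (i := 27) (a := g⁻¹) (b := x)
      rw [inv_inv] at h
      rw [h, h27, mul_one, inv_mul_cancel]
    · show g * (g⁻¹ * x * g) * g⁻¹ = x
      group
  set E := P ⊓ centralizer ({v} : Set G) with hE
  have hEmem : ∀ x, x ∈ E ↔ x ∈ P ∧ Commute x v := fun x => by
    rw [hE, mem_inf, mem_centralizer_singleton_iff]; rfl
  have hEQ : E ≤ Q := fun x hx => hQmem x ((hEmem x).1 hx).2 (B.pow_27 hP ((hEmem x).1 hx).1)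
  have huE : u ∈ E := (hEmem u).2 ⟨B.u_mem hP, (B.commute_u hP hvP).symm⟩
  have hvE : v ∈ E := (hEmem v).2 ⟨hvP, Commute.refl v⟩
  have hE9 : Nat.card E = 9 := by
    obtain ⟨k, hk, hkc⟩ := (Nat.dvd_prime_pow Nat.prime_three).1
      (show Nat.card E ∣ 3 ^ 3 by rw [show (3 : ℕ) ^ 3 = 27 from rfl, ← hP.card];
                                  exact card_dvd_of_le inf_le_left)
    have hlt : zpowers u < E := lt_of_le_of_ne (zpowers_le.2 huE) fun h => hvu (h ▸ hvE)
    have h3 : 3 < Nat.card E := by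
      have h := Set.ncard_lt_ncard (SetLike.coe_ssubset_coe.2 hlt) (Set.toFinite _)
      rwa [← Nat.card_coe_set_eq, ← Nat.card_coe_set_eq, SetLike.coe_sort_coe,
        SetLike.coe_sort_coe, Nat.card_zpowers, B.ou] at h
    have h27 : Nat.card E ≠ 27 := fun h => hvu (hcen v hvP fun y hy =>
      ((hEmem y).1 ((eq_of_le_of_card_ge (inf_le_left : E ≤ P) (by rw [h, hP.card])).ge hy)).2)
    interval_cases k <;> simp_all
  have hnorm : ∀ w : G, (∀ x ∈ E, w * x * w⁻¹ ∈ E) → w ∈ normalizer (E : Set G) := by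
    intro w hw
    have heq : E.map (MulAut.conj w).toMonoidHom = E := by
      refine eq_of_le_of_card_ge ?_ ?_
      · rintro _ ⟨y, hy, rfl⟩
        exact hw y hy
      · rw [card_map_of_injective (MulAut.conj w).injective]
    rw [mem_normalizer_iff]
    intro y
    refine ⟨hw y, fun hy => ?_⟩
    rw [← heq] at hy
    obtain ⟨y', hy', he⟩ := hy
    rwa [← (MulAut.conj w).injective he]
  set N := normalizer (E : Set G) with hN
  have hPN : P ≤ N := fun p hp => hnorm p fun x hx =>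
    normal_of_index_three inf_le_left hP.card hE9 hp hx
  have hQN : Q ≤ N := fun p hp => hnorm p fun x hx =>
    normal_of_index_three hEQ hQ27 hE9 hp hx
  have htv : t * v * t⁻¹ = v ∨ t * v * t⁻¹ = v⁻¹ := by
    have hm : t * v * t⁻¹ ∈ P ⊓ centralizer ({s'} : Set G) :=
      ⟨B.conj_mem_part hP (Or.inl (B.u_fix hP)) hvP, mem_centralizer_singleton_iff.2 (by
        have := hvs.map (MulAut.conj t)
        simp only [MulAut.conj_apply, conj_eq_iff_commute.2 B.cst.symm] at this
        exact this.eq)⟩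
    have heq : zpowers v = P ⊓ centralizer ({s'} : Set G) :=
      eq_of_le_of_card_ge (zpowers_le.2 ⟨hvP, mem_centralizer_singleton_iff.2 hvs.eq⟩)
        (by rw [Nat.card_zpowers, hov]; exact B.card_inf_le hP B.os)
    rw [← heq] at hm
    rcases mem_zpowers_three hov hm with h | h | h
    · exact absurd (conj_eq_one_iff.1 h) hv1
    exacts [Or.inl h, Or.inr h]
  have htN : t ∈ N := hnorm t fun x hx => (hEmem _).2
    ⟨B.conj_mem_part hP (Or.inl (B.u_fix hP)) ((hEmem x).1 hx).1, by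
      have h := ((hEmem x).1 hx).2.map (MulAut.conj t)
      simp only [MulAut.conj_apply] at h
      rcases htv with h' | h' <;> rw [h'] at h
      · exact h
      · simpa using h.inv_right⟩
  have hsN : s' ∈ N := hnorm s' fun x hx => (hEmem _).2
    ⟨B.conj_mem_part hP (Or.inr B.inv) ((hEmem x).1 hx).1, by
      have h := ((hEmem x).1 hx).2.map (MulAut.conj s')
      simp only [MulAut.conj_apply, conj_eq_iff_commute.2 hvs.symm] at h
      exact h⟩
  let PS : Sylow 3 G := Sylow.ofCard P (by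
    rw [hP.card, B.card, show 5616 = 3 ^ 3 * 208 by norm_num,
      Nat.factorization_mul (by norm_num) (by norm_num), Nat.factorization_pow]
    simp [Nat.factorization_eq_zero_of_not_dvd (show ¬ 3 ∣ 208 by norm_num),
      Nat.Prime.factorization_self Nat.prime_three])
  have hPS : (PS : Subgroup G) = P := Sylow.coe_ofCard _ _
  set NP := normalizer (P : Set G) with hNP
  have hnormP : ∀ w : G, w * u * w⁻¹ = u ∨ w * u * w⁻¹ = u⁻¹ → w * w = 1 → w ∈ NP := by
    intro w hw hww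
    rw [hNP, mem_normalizer_iff]
    intro y
    refine ⟨fun hy => B.conj_mem_part hP hw hy, fun hy => ?_⟩
    have := B.conj_mem_part hP hw hy
    rwa [conj_conj hww] at this
  set M := N ⊓ NP with hM
  have h27M : 27 ∣ Nat.card M :=
    hP.card ▸ card_dvd_of_le (le_inf hPN (le_normalizer (H := P)))
  have h4M : 4 ∣ Nat.card M := by
    let f : Bool × Bool → M := fun p => ⟨(if p.1 then t else 1) * (if p.2 then s' else 1), by
      have ht' : t ∈ M := ⟨htN, hnormP t (Or.inl (B.u_fix hP)) B.tt⟩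
      have hs' : s' ∈ M := ⟨hsN, hnormP s' (Or.inr B.inv) B.ss⟩
      refine mul_mem ?_ ?_ <;> split_ifs <;> first | assumption | exact one_mem _⟩
    let D : Subgroup G := closure {t, s'}
    have ht' : t ∈ M := ⟨htN, hnormP t (Or.inl (B.u_fix hP)) B.tt⟩
    have hs' : s' ∈ M := ⟨hsN, hnormP s' (Or.inr B.inv) B.ss⟩
    have ett : ∀ x : G, t * (t * x) = x := fun x => by rw [← mul_assoc, B.tt, one_mul]
    have ess : ∀ x : G, s' * (s' * x) = x := fun x => by rw [← mul_assoc, B.ss, one_mul]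
    have est : ∀ x : G, s' * (t * x) = t * (s' * x) := fun x => by
      rw [← mul_assoc, B.cst.eq, mul_assoc]
    obtain ⟨K, hK⟩ : ∃ K : Subgroup G, (K : Set G) = {1, t, s', t * s'} := by
      refine ⟨{ carrier := {1, t, s', t * s'}, one_mem' := by simp, mul_mem' := ?_, inv_mem' := ?_ },
        rfl⟩
      · rintro a b (h | h | h | h) (h' | h' | h' | h') <;> rw [h, h'] <;>
          simp [B.tt, B.ss, B.cst.eq, mul_assoc, ett, ess, est]
      · rintro a (h | h | h | h) <;> rw [h] <;>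
          simp [B.inv_t, B.inv_s, B.cst.eq]
    have hK4 : Nat.card K = 4 := by
      have ht1 : t ≠ 1 := fun h => by have := B.ot; rw [h, orderOf_one] at this; omega
      have hs1 : s' ≠ 1 := fun h => by have := B.os; rw [h, orderOf_one] at this; omega
      have h1 : t * s' ≠ 1 := fun h => by
        have := B.order_ts; rw [h, orderOf_one] at this; omega
      rw [← SetLike.coe_sort_coe, hK, Nat.card_coe_set_eq,
        show ({1, t, s', t * s'} : Set G) = ↑({1, t, s', t * s'} : Finset G) by simp,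
        Set.ncard_coe_finset,
        Finset.card_insert_of_notMem (by simp [ht1.symm, hs1.symm, h1.symm]),
        Finset.card_insert_of_notMem (by simp [B.ne.symm, hs1]),
        Finset.card_insert_of_notMem (by simp [ht1]), Finset.card_singleton]
    rw [← hK4]
    refine card_dvd_of_le fun x hx => ?_
    have hx' : x ∈ ({1, t, s', t * s'} : Set G) := hK ▸ (hx : x ∈ (K : Set G))
    rcases hx' with rfl | rfl | rfl | rfl
    exacts [one_mem _, ht', hs', mul_mem ht' hs']
  have h108 : 108 ∣ Nat.card M :=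
    Nat.Coprime.mul_dvd_of_dvd_of_dvd (by norm_num : Nat.Coprime 27 4) h27M h4M
  let PN : Sylow 3 N := PS.subtype (hPS.le.trans hPN)
  have hPN' : normalizer ((PN : Subgroup N) : Set N) = M.subgroupOf N := by
    rw [Sylow.coe_subtype, ← subgroupOf_normalizer_eq (hPS.le.trans hPN), hPS, hM,
      inf_comm, inf_subgroupOf_right]
  have hn := card_sylow_modEq_one 3 N
  rw [Sylow.card_eq_index_normalizer PN] at hn
  change (normalizer ((PN : Subgroup N) : Set N)).index % 3 = 1 at hn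
  rw [hPN'] at hn
  set n := (M.subgroupOf N).index with hndef
  have hmul := (M.subgroupOf N).card_mul_index
  rw [Nat.card_congr (subgroupOfEquivOfLe (inf_le_left : M ≤ N)).toEquiv, ← hndef] at hmul
  have hn1 : n ≠ 1 := by
    intro h1
    have hQP : Q = P := by
      have hNM : N ≤ NP := by
        have := index_eq_one.1 h1
        rw [subgroupOf_eq_top] at this
        exact this.trans inf_le_right
      have hQ3 : IsPGroup 3 Q := IsPGroup.of_card (n := 3) (by rw [hQ27]; norm_num)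
      have hQ' := (hQ3.inf_normalizer_sylow PS).ge
      refine eq_of_le_of_card_ge (fun x hx => ?_) (by rw [hQ27, hP.card])
      have h := (hQ3.inf_normalizer_sylow PS).le ⟨hx, show x ∈ normalizer ((PS : Subgroup G) : Set G)
        by rw [hPS]; exact hNM (hQN hx)⟩
      rw [hPS] at h
      exact h.2
    exact hvu (hcen v hvP fun y hy => hQC y (hQP ▸ hy))
  -- `13` does not divide the order of `N`
  have h13 : ¬ 13 ∣ Nat.card N := by
    intro h13
    haveI := Fact.mk (show Nat.Prime 13 by norm_num)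
    obtain ⟨⟨x, hxN⟩, hx⟩ := exists_prime_orderOf_dvd_card' (G := N) 13 h13
    rw [orderOf_mk] at hx
    have hxu : Commute x u := by
      by_contra hne
      have hsub : ∀ i : Fin 13, x ^ i.val * u * (x ^ i.val)⁻¹ ∈ E := fun i =>
        (mem_normalizer_iff.1 (pow_mem hxN i.val) u).1 huE
      have hinj : Function.Injective fun i : Fin 13 => (⟨_, hsub i⟩ : E) := by
        intro i j h
        have h' : x ^ i.val * u * (x ^ i.val)⁻¹ = x ^ j.val * u * (x ^ j.val)⁻¹ :=
          congrArg Subtype.val h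
        by_contra hij
        refine hne ?_
        have hk : Commute (x ^ ((i.val : ℤ) - j.val)) u := by
          rw [← conj_eq_iff_commute, zpow_sub, zpow_natCast, zpow_natCast]
          calc x ^ i.val * (x ^ j.val)⁻¹ * u * (x ^ i.val * (x ^ j.val)⁻¹)⁻¹
              = (x ^ j.val)⁻¹ * (x ^ i.val * u * (x ^ i.val)⁻¹) * x ^ j.val := by
                rw [(Commute.pow_pow_self x i.val j.val).inv_right.eq]; group
            _ = u := by rw [h']; group
        have hx2 : x ∈ zpowers (x ^ ((i.val : ℤ) - j.val)) := by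
          rw [mem_zpowers_zpow_iff, hx]
          rw [Int.gcd_comm, ← Int.isCoprime_iff_gcd_eq_one]
          refine ((Int.prime_iff_natAbs_prime.2 (by norm_num)).coprime_iff_not_dvd).2 ?_
          intro hd
          have : (i.val : ℤ) - j.val = 0 := by omega
          exact hij (Fin.ext (by omega))
        obtain ⟨k, hk'⟩ := mem_zpowers_iff.1 hx2
        rw [← hk']
        exact hk.zpow_left k
      have := Nat.card_le_card_of_injective _ hinj
      rw [hE9] at this
      simp at this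
    refine B.not_thirteen_dvd B.ou ?_
    rw [← hx]
    exact orderOf_dvd_natCard _ (mem_centralizer_singleton_iff.2 hxu.eq)
  obtain ⟨c, hc108⟩ := h108
  have hdvd := card_subgroup_dvd_card N
  rw [B.card] at hdvd
  have h432 : Nat.card N ∣ 432 :=
    (((show Nat.Prime 13 by norm_num).coprime_iff_not_dvd).2 h13).symm.dvd_of_dvd_mul_right
      (show Nat.card N ∣ 432 * 13 from hdvd)
  rw [← hmul, hc108, mul_assoc, show (432 : ℕ) = 108 * 4 from rfl] at h432
  have hcn : c * n ∣ 4 := Nat.dvd_of_mul_dvd_mul_left (by norm_num) h432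
  have hle := Nat.le_of_dvd (by norm_num) ((dvd_mul_left n c).trans hcn)
  have hn4 : n = 4 := by
    interval_cases n <;> omega
  have hc1 : c = 1 := by
    rw [hn4] at hcn
    have := Nat.le_of_dvd (by norm_num) hcn
    rcases c with _ | _ | c
    · have := Nat.card_pos (α := M)
      omega
    · rfl
    · omega
  refine ⟨N, ?_⟩
  have h := N.card_mul_index
  rw [B.card, ← hmul, hc108, hc1, hn4] at h
  omega

/-- Every element of order three is inverted by an involution. -/
theorem Base.exists_inverting [IsSimpleGroup G] {t u s : G} (B : Base G t u s) {y : G}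
    (hy : orderOf y = 3) : ∃ w : G, orderOf w = 2 ∧ w * y * w⁻¹ = y⁻¹ := by
  classical
  haveI := Fact.mk Nat.prime_three
  obtain ⟨P, hc, hC, hle, hm⟩ := B.centralizer_u
  have hP : Part G u P := ⟨hc, hC, hle, hm⟩
  have hconj : ∀ {a b : G}, IsConj a b → (∃ w : G, orderOf w = 2 ∧ w * a * w⁻¹ = a⁻¹) →
      ∃ w : G, orderOf w = 2 ∧ w * b * w⁻¹ = b⁻¹ := by
    intro a b hab ⟨w, hw, hwa⟩
    obtain ⟨g, rfl⟩ := isConj_iff.1 hab
    refine ⟨g * w * g⁻¹, by rw [show g * w * g⁻¹ = MulAut.conj g w from rfl, MulEquiv.orderOf_eq, hw],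
      ?_⟩
    calc g * w * g⁻¹ * (g * a * g⁻¹) * (g * w * g⁻¹)⁻¹ = g * (w * a * w⁻¹) * g⁻¹ := by group
      _ = _ := by rw [hwa, conj_inv]
  let PS : Sylow 3 G := Sylow.ofCard P (by
    rw [hP.card, B.card, show 5616 = 3 ^ 3 * 208 by norm_num,
      Nat.factorization_mul (by norm_num) (by norm_num), Nat.factorization_pow]
    simp [Nat.factorization_eq_zero_of_not_dvd (show ¬ 3 ∣ 208 by norm_num),
      Nat.Prime.factorization_self Nat.prime_three])
  have hPS : (PS : Subgroup G) = P := Sylow.coe_ofCard _ _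
  obtain ⟨R, hR⟩ := (IsPGroup.of_card (p := 3) (n := 1)
    (show Nat.card (zpowers y) = 3 ^ 1 by rw [Nat.card_zpowers, hy, pow_one])).exists_le_sylow
  obtain ⟨g, hg⟩ := MulAction.exists_smul_eq G R PS
  have hy' : g * y * g⁻¹ ∈ P := by
    rw [← hPS, ← hg]
    exact Subgroup.smul_mem_pointwise_smul y (MulAut.conj g) _ (hR (mem_zpowers y))
  refine hconj (a := g * y * g⁻¹) (isConj_iff.2 ⟨g⁻¹, by group⟩) ?_
  generalize g * y * g⁻¹ = z at hy' ⊢
  by_cases hzu : z ∈ zpowers u
  · refine ⟨s, B.os, ?_⟩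
    obtain ⟨j, rfl⟩ := mem_zpowers_iff.1 hzu
    rw [← conj_zpow, B.inv, inv_zpow]
  by_cases hinvol : ∃ w, orderOf w = 2 ∧ Commute z w
  · obtain ⟨w, hw, hzw⟩ := hinvol
    refine hconj (B.conj_u ?_ hw hzw) ⟨s, B.os, B.inv⟩
    refine orderOf_eq_prime (B.part_exponent hP hy') fun h => hzu ?_
    rw [h]; exact one_mem _
  obtain ⟨hcen, hcom⟩ := B.part_center hP
  obtain ⟨p, hp, hpz⟩ : ∃ p ∈ P, ¬ Commute p z := by
    by_contra h
    push Not at h
    exact hzu (hcen z hy' h)
  set c := p * z * p⁻¹ * z⁻¹ with hcdef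
  have hcZ : c ∈ zpowers u := hcom p hp z hy'
  have hc1 : c ≠ 1 := fun h => hpz (conj_eq_iff_commute.1 (mul_inv_eq_one.1 h))
  have hd := B.t_inverts hP hy'
  set d := t * z * t⁻¹ * z with hddef
  have hcu : ∀ k ∈ zpowers u, ∀ w ∈ P, Commute k w := fun k hk w hw => by
    obtain ⟨j, rfl⟩ := mem_zpowers_iff.1 hk
    exact (B.commute_u hP hw).symm.zpow_left j
  have hpm : ∀ m : ℕ, p ^ m * z * (p ^ m)⁻¹ = c ^ m * z := by
    intro m
    induction m with
    | zero => simp
    | succ m ih =>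
      calc p ^ (m + 1) * z * (p ^ (m + 1))⁻¹ = p * (p ^ m * z * (p ^ m)⁻¹) * p⁻¹ := by
            rw [pow_succ']; group
        _ = p * c ^ m * p⁻¹ * (p * z * p⁻¹) := by rw [ih]; group
        _ = c ^ (m + 1) * z := by
            rw [conj_eq_iff_commute.2 ((hcu _ (pow_mem hcZ m) p hp).symm),
              show p * z * p⁻¹ = c * z by rw [hcdef]; group, ← mul_assoc, ← pow_succ]
  have hcc : zpowers c = zpowers u := eq_of_le_of_card_ge (zpowers_le.2 hcZ) (by
    rcases mem_zpowers_three B.ou hcZ with h | h | h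
    · exact absurd h hc1
    · rw [h]
    · rw [h, zpowers_inv])
  obtain ⟨m, hm'⟩ : ∃ m : ℕ, c ^ m = d := by
    have hd' : d ∈ zpowers c := hcc ▸ hd
    rw [mem_zpowers_iff_mem_range_orderOf, Finset.mem_image] at hd'
    obtain ⟨m, -, hm'⟩ := hd'
    exact ⟨m, hm'⟩
  set a := p ^ m * t with ha
  have haz : a * z * a⁻¹ = z⁻¹ := by
    have hzt : t * z * t⁻¹ = d * z⁻¹ := by rw [hddef]; group
    calc a * z * a⁻¹ = p ^ m * (t * z * t⁻¹) * (p ^ m)⁻¹ := by rw [ha]; group
      _ = p ^ m * d * (p ^ m)⁻¹ * (p ^ m * z * (p ^ m)⁻¹)⁻¹ := by rw [hzt]; group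
      _ = d * (c ^ m * z)⁻¹ := by rw [conj_eq_iff_commute.2 (hcu d hd _ (pow_mem hp m)).symm, hpm]
      _ = z⁻¹ := by
        rw [hm', (hcu d hd z hy').eq, _root_.mul_inv_rev, ← mul_assoc, mul_inv_cancel, one_mul]
  -- a power of odd index is an involution
  set C := centralizer ({z} : Set G) with hCz
  have hodd : ¬ 2 ∣ Nat.card C := by
    intro h2
    haveI := Fact.mk Nat.prime_two
    obtain ⟨⟨w, hwC⟩, hw⟩ := exists_prime_orderOf_dvd_card' (G := C) 2 h2
    rw [orderOf_mk] at hw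
    exact hinvol ⟨w, hw, (mem_centralizer_singleton_iff.1 hwC : Commute w z).symm⟩
  have ha2 : a ^ 2 ∈ C := by
    refine mem_centralizer_singleton_iff.2 (conj_eq_iff_commute.1 ?_).eq
    rw [sq, show a * a * z * (a * a)⁻¹ = a * (a * z * a⁻¹) * a⁻¹ by group, haz, ← conj_inv, haz,
      inv_inv]
  obtain ⟨k, hk⟩ : ∃ k, Nat.card C = 2 * k + 1 := ⟨Nat.card C / 2, by omega⟩
  set w := a ^ (2 * k + 1) with hwdef
  have hwz : w * z * w⁻¹ = z⁻¹ := by
    have hc2 : Commute (a ^ (2 * k)) z := by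
      rw [pow_mul]; exact (show Commute (a ^ 2) z from mem_centralizer_singleton_iff.1 ha2).pow_left k
    calc w * z * w⁻¹ = a * (a ^ (2 * k) * z * (a ^ (2 * k))⁻¹) * a⁻¹ := by
          rw [hwdef, pow_succ']; group
      _ = z⁻¹ := by rw [conj_eq_iff_commute.2 hc2, haz]
  refine ⟨w, orderOf_eq_prime ?_ ?_, hwz⟩
  · rw [hwdef, ← pow_mul, mul_comm, pow_mul, ← hk, ← orderOf_dvd_iff_pow_eq_one]
    exact orderOf_dvd_natCard _ ha2
  · intro h
    rw [h, one_mul, inv_one, mul_one, eq_inv_iff_mul_eq_one, ← sq] at hwz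
    have h3 := B.part_exponent hP hy'
    rw [pow_succ, hwz, one_mul] at h3
    exact hzu (h3 ▸ one_mem _)

/-- Elements of three-power order have order at most three. -/
theorem Base.pow_three_eq_one [IsSimpleGroup G] {t u s : G} (B : Base G t u s) {y : G}
    (hy : y ^ 27 = 1) : y ^ 3 = 1 := by
  classical
  haveI := Fact.mk Nat.prime_three
  obtain ⟨P, hc, hC, hle, hm⟩ := B.centralizer_u
  have hP : Part G u P := ⟨hc, hC, hle, hm⟩
  have hpg : IsPGroup 3 (zpowers y) := by
    intro z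
    obtain ⟨k, hk⟩ := mem_zpowers_iff.1 z.2
    refine ⟨3, Subtype.ext ?_⟩
    rw [coe_pow, coe_one, ← hk, ← zpow_natCast, ← zpow_mul, mul_comm, zpow_mul, zpow_natCast,
      show 3 ^ 3 = 27 from rfl, hy, one_zpow]
  obtain ⟨R, hR⟩ := hpg.exists_le_sylow
  let PS : Sylow 3 G := Sylow.ofCard P (by
    rw [hP.card, B.card, show 5616 = 3 ^ 3 * 208 by norm_num,
      Nat.factorization_mul (by norm_num) (by norm_num), Nat.factorization_pow]
    simp [Nat.factorization_eq_zero_of_not_dvd (show ¬ 3 ∣ 208 by norm_num),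
      Nat.Prime.factorization_self Nat.prime_three])
  obtain ⟨g, hg⟩ := MulAction.exists_smul_eq G R PS
  have hy' : g * y * g⁻¹ ∈ P := by
    rw [← show (PS : Subgroup G) = P from Sylow.coe_ofCard _ _, ← hg]
    exact Subgroup.smul_mem_pointwise_smul y (MulAut.conj g) _ (hR (mem_zpowers y))
  have h := B.part_exponent hP hy'
  rwa [conj_pow, conj_eq_one_iff] at h

end CfsgLib.Small.L33
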