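import Cfsg.Agent.Lib.Small.L33.Base

/-!
# Groups of order 5616: the centralizer of an element of order three has order 54
-/

set_option autoImplicit false
set_option linter.style.haveILetI false
set_option linter.unusedSectionVars false

open Subgroup

namespace CfsgLib.Small.L33

variable {G : Type*} [Group G] [Finite G]

theorem conj_pow_of_eq {p x y : G} (h : p * x * p⁻¹ = y) (n : ℕ) : p * x ^ n * p⁻¹ = y ^ n := by
  rw [← h, conj_pow]

/-- A conjugation of three-power order stabilizing a group of order three fixes it. -/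
theorem commute_of_three {p x : G} (hp : p ^ 27 = 1) (hx : orderOf x = 3) {n : ℕ}
    (h : p * x * p⁻¹ = x ^ n) : Commute p x := by
  have hm : p * x * p⁻¹ = x ^ (n % 3) := by rw [h, ← hx, pow_mod_orderOf]
  rcases (show n % 3 = 0 ∨ n % 3 = 1 ∨ n % 3 = 2 by omega) with h' | h' | h' <;> rw [h'] at hm
  · rw [pow_zero, conj_eq_one_iff] at hm
    rw [hm, orderOf_one] at hx
    omega
  · rw [pow_one] at hm
    exact mul_inv_eq_iff_eq_mul.1 hm
  · exfalso
    have h3 : x ^ 3 = 1 := hx ▸ pow_orderOf_eq_one x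
    have key : ∀ m : ℕ, p ^ m * x * (p ^ m)⁻¹ = x ^ (2 ^ m) := by
      intro m
      induction m with
      | zero => simp
      | succ m ih =>
        calc p ^ (m + 1) * x * (p ^ (m + 1))⁻¹ = p * (p ^ m * x * (p ^ m)⁻¹) * p⁻¹ := by
              rw [pow_succ']; group
          _ = _ := by rw [ih, conj_pow_of_eq hm, ← pow_mul, pow_succ']
    have h27 := key 27
    rw [hp, one_mul, inv_one, mul_one, ← pow_mod_orderOf x (2 ^ 27), hx,
      show 2 ^ 27 % 3 = 2 from rfl, sq, right_eq_mul] at h27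
    rw [h27, orderOf_one] at hx
    omega

theorem normal_of_index_three {R P : Subgroup G} (hPR : P ≤ R) (hR : Nat.card R = 27)
    (hP : Nat.card P = 9) {p x : G} (hp : p ∈ R) (hx : x ∈ P) : p * x * p⁻¹ ∈ P := by
  have hidx : (P.subgroupOf R).index = 3 := by
    have h := (P.subgroupOf R).card_mul_index
    rw [Nat.card_congr (subgroupOfEquivOfLe hPR).toEquiv, hP, hR] at h
    omega
  have hn : (P.subgroupOf R).Normal := normal_of_index_eq_minFac_card (by
    rw [hidx, hR, show (27 : ℕ) = 3 ^ 3 from rfl, Nat.pow_minFac (by norm_num),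
      Nat.prime_three.minFac_eq])
  exact hn.conj_mem ⟨x, hPR hx⟩ hx ⟨p, hp⟩

theorem mem_zpowers_three {x y : G} (hx : orderOf x = 3) (hy : y ∈ zpowers x) :
    y = 1 ∨ y = x ∨ y = x⁻¹ := by
  obtain ⟨k, rfl⟩ := mem_zpowers_iff.1 hy
  rw [← zpow_mod_orderOf x k, hx]
  rcases (show k % 3 = 0 ∨ k % 3 = 1 ∨ k % 3 = 2 by omega) with h | h | h <;> push_cast <;> rw [h]
  · exact Or.inl (zpow_zero x)
  · exact Or.inr (Or.inl (zpow_one x))
  · refine Or.inr (Or.inr (eq_inv_of_mul_eq_one_left ?_))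
    rw [← zpow_add_one]
    exact_mod_cast hx ▸ pow_orderOf_eq_one x

namespace Base

variable {t u s : G} (B : Base G t u s)

include B

theorem inv_s : s⁻¹ = s := inv_eq_of_mul_eq_one_right B.ss

theorem inv_t : t⁻¹ = t := inv_eq_of_mul_eq_one_right B.tt

/-- The two reflections can be interchanged. -/
theorem swap : Base G t u (t * s) :=
  { B with
    os := B.order_ts
    ne := fun h => by
      have := B.os
      rw [mul_eq_left.1 h, orderOf_one] at this
      omega
    cst := (Commute.refl t).mul_left B.cst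
    inv := by
      calc t * s * u * (t * s)⁻¹ = t * (s * u * s⁻¹) * t⁻¹ := by group
        _ = t * u⁻¹ * t⁻¹ := by rw [B.inv]
        _ = u⁻¹ := by rw [B.cut.inv_left.symm.eq, mul_inv_cancel_right]
    inverting := fun x h1 h2 h3 => by
      obtain ⟨k, hk⟩ := B.inverting x h1 h2 h3
      exact ⟨k, hk.symm.imp id fun h => by rw [← mul_assoc, B.tt, one_mul, h]⟩ }

/-- A Sylow 3-subgroup has order 27. -/
theorem card_three [Fact (Nat.Prime 3)] (R : Sylow 3 G) : Nat.card (R : Subgroup G) = 27 := by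
  simpa using card_sylow_eq (p := 3) 3 208 (by rw [B.card]; rfl) (by norm_num) R

theorem conj_pow_u {m : ℕ} (hm : ¬ 3 ∣ m) : IsConj u (u ^ m) := by
  rw [← pow_mod_orderOf u m, B.ou]
  rcases (show m % 3 = 1 ∨ m % 3 = 2 by omega) with h | h <;> rw [h]
  · rw [pow_one]
  · refine isConj_iff.2 ⟨s, B.inv.trans (inv_eq_of_mul_eq_one_right ?_)⟩
    rw [← pow_succ', B.u3]

theorem centralizer_u [IsSimpleGroup G] : ∃ P : Subgroup G, Nat.card P = 27 ∧
    Nat.card (centralizer ({u} : Set G)) = 54 ∧ P ≤ centralizer ({u} : Set G) ∧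
    ∀ y : G, y ∈ centralizer ({u} : Set G) → y ^ 27 = 1 → y ∈ P := by
  classical
  haveI := Fact.mk Nat.prime_three
  obtain ⟨P, hPcard, hC, hPC, hmem⟩ := B.exists_threePart
  suffices hP27 : Nat.card P = 27 from ⟨P, hP27, by rw [hC, hP27], hPC, hmem⟩
  set C := centralizer ({u} : Set G) with hCdef
  obtain ⟨R, hR⟩ := (IsPGroup.of_card (p := 3) (n := 1)
    (show Nat.card (zpowers u) = 3 ^ 1 by rw [Nat.card_zpowers, B.ou, pow_one])).exists_le_sylow
  have hR27 := B.card_three R
  have huR : u ∈ (R : Subgroup G) := hR (mem_zpowers u)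
  haveI : Nontrivial (R : Subgroup G) := Finite.one_lt_card_iff_nontrivial.1 (by rw [hR27]; norm_num)
  haveI := R.2.center_nontrivial
  obtain ⟨⟨⟨z, hzR⟩, hzc⟩, hz⟩ := exists_prime_orderOf_dvd_card'
    (G := center (R : Subgroup G)) 3 (by
      obtain ⟨n, hn, hc⟩ := ((R.2.to_subgroup _).nontrivial_iff_card).1 ‹_›
      rw [hc]
      exact dvd_pow_self 3 hn.ne')
  rw [orderOf_mk, orderOf_mk] at hz
  have hzcomm : ∀ y ∈ (R : Subgroup G), Commute y z := fun y hy =>
    congrArg Subtype.val (mem_center_iff.1 hzc ⟨y, hy⟩)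
  have hRP : ∀ y, y ∈ (R : Subgroup G) → y ∈ C → y ∈ P := fun y hy hyC => hmem y hyC
    (orderOf_dvd_iff_pow_eq_one.1 (hR27 ▸ orderOf_dvd_natCard _ hy))
  have huP : u ∈ P := hRP u huR (mem_centralizer_singleton_iff.2 rfl)
  by_contra h27
  have hzC : z ∈ C := mem_centralizer_singleton_iff.2 (hzcomm u huR).symm.eq
  have hzP : z ∈ P := hRP z hzR hzC
  -- central elements of `R` are not conjugate to `u`
  have hncent : ∀ y, (∀ r ∈ (R : Subgroup G), Commute r y) → ¬ IsConj u y := by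
    intro y hy hc
    have h := card_dvd_of_le (show (R : Subgroup G) ≤ centralizer ({y} : Set G) from
      fun r hr => mem_centralizer_singleton_iff.2 (hy r hr).eq)
    rw [hR27, B.card_conj_u hc, ← hCdef, hC] at h
    have h' : 27 ∣ Nat.card P := Nat.Coprime.dvd_of_dvd_mul_left (by norm_num) h
    rcases hPcard with h'' | h'' | h'' <;> rw [h''] at h' <;> norm_num at h'
    exact h27 h''
  have hzu : ¬ IsConj u z := hncent z hzcomm
  have hzni : ∀ w : G, orderOf w = 2 → ¬ Commute z w := fun w hw h => hzu (B.conj_u hz hw h)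
  have hznu : z ∉ zpowers u := fun h => hzni t B.ot (by
    obtain ⟨k, rfl⟩ := mem_zpowers_iff.1 h
    exact B.cut.zpow_left k)
  have hP9 : Nat.card P = 9 := by
    rcases hPcard with h | h | h
    · exfalso
      refine hznu ((eq_of_le_of_card_ge (zpowers_le.2 huP) ?_).ge hzP)
      rw [h, Nat.card_zpowers, B.ou]
    · exact h
    · exact absurd h h27
  haveI : IsMulCommutative P := IsPGroup.isMulCommutative_of_card_eq_prime_sq (p := 3) hP9
  have hcomm : ∀ a ∈ P, ∀ b ∈ P, Commute a b := fun a ha b hb =>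
    congrArg Subtype.val (mul_comm' (⟨a, ha⟩ : P) ⟨b, hb⟩)
  have hnorm : ∀ w : G, w * u * w⁻¹ = u ∨ w * u * w⁻¹ = u⁻¹ → ∀ y ∈ P, w * y * w⁻¹ ∈ P := by
    intro w hw y hy
    refine hmem _ (mem_centralizer_singleton_iff.2 ?_) ?_
    · have hc : Commute y u := mem_centralizer_singleton_iff.1 (hPC hy)
      rcases hw with h | h
      · have := hc.map (MulAut.conj w)
        simp only [MulAut.conj_apply, h] at this
        exact this.eq
      · have := (hc.map (MulAut.conj w)).inv_right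
        simp only [MulAut.conj_apply, h, inv_inv] at this
        exact this.eq
    · rw [conj_pow, orderOf_dvd_iff_pow_eq_one.1
        ((orderOf_dvd_natCard _ hy).trans (by rw [hP9]; norm_num : Nat.card P ∣ 27)),
        mul_one, mul_inv_cancel]
  have htu : t * u * t⁻¹ = u := by rw [B.cut.symm.eq, mul_inv_cancel_right]
  -- an element inverted by `t`
  obtain ⟨y, hy, hyt⟩ : ∃ y ∈ P, ¬ Commute y t := by
    by_contra h
    push Not at h
    exact hzni t B.ot (h z hzP)
  set a := y * (t * y * t⁻¹)⁻¹ with hadef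
  have haP : a ∈ P := mul_mem hy (inv_mem (hnorm t (Or.inl htu) y hy))
  have ha1 : a ≠ 1 := fun h => hyt (by
    have h2 : y = t * y * t⁻¹ := mul_inv_eq_one.1 h
    calc y * t = t * y * t⁻¹ * t := by rw [← h2]
      _ = t * y := by group)
  let I : Subgroup G :=
    { carrier := {x | x ∈ P ∧ t * x * t⁻¹ = x⁻¹}
      one_mem' := ⟨one_mem _, by simp⟩
      mul_mem' := fun {a b} ha hb => ⟨mul_mem ha.1 hb.1, by
        rw [show t * (a * b) * t⁻¹ = t * a * t⁻¹ * (t * b * t⁻¹) by group, ha.2, hb.2,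
          _root_.mul_inv_rev, (hcomm _ (inv_mem ha.1) _ (inv_mem hb.1)).eq]⟩
      inv_mem' := fun {a} ha => ⟨inv_mem ha.1, by rw [← conj_inv, ha.2]⟩ }
  have haI : a ∈ I := ⟨haP, by
    rw [hadef, show t * (y * (t * y * t⁻¹)⁻¹) * t⁻¹ = t * y * t⁻¹ * ((t * t) * y * (t * t)⁻¹)⁻¹ by
      group, B.tt, one_mul, inv_one, mul_one, _root_.mul_inv_rev, inv_inv]⟩
  have hdisj : ∀ x ∈ I, x ∈ zpowers u → x = 1 := by
    intro x hx hxu
    obtain ⟨k, rfl⟩ := mem_zpowers_iff.1 hxu
    have h := hx.2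
    rw [← conj_zpow, htu, eq_inv_iff_mul_eq_one, ← sq] at h
    have h3 : (u ^ k) ^ 3 = 1 := by
      rw [← zpow_natCast, ← zpow_mul, mul_comm, zpow_mul, zpow_natCast, B.u3, one_zpow]
    rwa [pow_succ, h, one_mul] at h3
  have hI3 : Nat.card I ≤ 3 := by
    have hle : Nat.card (I × zpowers u) ≤ Nat.card P := by
      refine Nat.card_le_card_of_injective (fun p => (⟨(p.1 : G) * p.2,
        mul_mem p.1.2.1 (zpowers_le.2 huP p.2.2)⟩ : P)) fun p q h => ?_
      have h' : (p.1 : G) * p.2 = q.1 * q.2 := congrArg Subtype.val h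
      have he : (q.1 : G)⁻¹ * p.1 = q.2 * (p.2 : G)⁻¹ := by
        rw [eq_mul_inv_iff_mul_eq, mul_assoc, h', inv_mul_cancel_left]
      have h1 := hdisj _ (mul_mem (inv_mem q.1.2) p.1.2)
        (he ▸ mul_mem q.2.2 (inv_mem p.2.2))
      rw [inv_mul_eq_one] at h1
      rw [← h1] at h'
      exact Prod.ext (Subtype.ext h1.symm) (Subtype.ext (mul_left_cancel h'))
    rw [Nat.card_prod, Nat.card_zpowers, B.ou, hP9] at hle
    omega
  have hoa : orderOf a = 3 := by
    have hd := (orderOf_dvd_natCard _ haP).trans (by rw [hP9]; norm_num : Nat.card P ∣ 3 ^ 2)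
    obtain ⟨k, hk, he⟩ := (Nat.dvd_prime_pow Nat.prime_three).1 hd
    have hle := (Nat.le_of_dvd Nat.card_pos (orderOf_dvd_natCard _ haI)).trans hI3
    have hne : orderOf a ≠ 1 := fun h => ha1 (orderOf_eq_one_iff.1 h)
    interval_cases k <;> simp_all
  have hIa : zpowers a = I := eq_of_le_of_card_ge (zpowers_le.2 haI)
    (by rw [Nat.card_zpowers, hoa]; exact hI3)
  -- a reflection centralizes `a`
  obtain ⟨r, hr2, hra⟩ : ∃ r : G, orderOf r = 2 ∧ Commute a r := by
    have hsa : s * a * s⁻¹ ∈ I := ⟨hnorm s (Or.inr B.inv) a haP, by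
      calc t * (s * a * s⁻¹) * t⁻¹ = (t * s) * a * (t * s)⁻¹ := by group
        _ = (s * t) * a * (s * t)⁻¹ := by rw [B.cst.symm.eq]
        _ = s * (t * a * t⁻¹) * s⁻¹ := by group
        _ = (s * a * s⁻¹)⁻¹ := by rw [haI.2]; group⟩
    rw [← hIa] at hsa
    rcases mem_zpowers_three hoa hsa with h | h | h
    · exact absurd (conj_eq_one_iff.1 h) ha1
    · exact ⟨s, B.os, (mul_inv_eq_iff_eq_mul.1 h).symm⟩
    · refine ⟨t * s, B.order_ts, (mul_inv_eq_iff_eq_mul.1 ?_).symm⟩
      calc t * s * a * (t * s)⁻¹ = t * (s * a * s⁻¹) * t⁻¹ := by group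
        _ = t * a⁻¹ * t⁻¹ := by rw [h]
        _ = a := by rw [← conj_inv, haI.2, inv_inv]
  -- coordinates
  have hua := hcomm u huP a haP
  have hanu : a ∉ zpowers u := fun h => ha1 (hdisj a haI h)
  let f : Fin 3 × Fin 3 → P := fun p =>
    ⟨u ^ p.1.val * a ^ p.2.val, mul_mem (pow_mem huP _) (pow_mem haP _)⟩
  have hf : Function.Bijective f := by
    refine (Nat.bijective_iff_injective_and_card f).2 ⟨fun p q h => ?_, by simp [hP9]⟩
    have h' : u ^ p.1.val * a ^ p.2.val = u ^ q.1.val * a ^ q.2.val := congrArg Subtype.val h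
    have he : (u ^ q.1.val)⁻¹ * u ^ p.1.val = a ^ q.2.val * (a ^ p.2.val)⁻¹ := by
      rw [eq_mul_inv_iff_mul_eq, mul_assoc, h', inv_mul_cancel_left]
    have h1 := hdisj _ (he ▸ mul_mem (pow_mem haI _) (inv_mem (pow_mem haI _)))
      (mul_mem (inv_mem (pow_mem (mem_zpowers u) _)) (pow_mem (mem_zpowers u) _))
    rw [inv_mul_eq_one] at h1
    rw [h1] at h'
    have h2 := mul_left_cancel h'
    have e1 := pow_eq_pow_iff_modEq.1 h1
    have e2 := pow_eq_pow_iff_modEq.1 h2
    rw [B.ou] at e1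
    rw [hoa] at e2
    exact Prod.ext (Fin.ext (Nat.ModEq.eq_of_lt_of_lt e1 q.1.2 p.1.2).symm)
      (Fin.ext (Nat.ModEq.eq_of_lt_of_lt e2 p.2.2 q.2.2))
  obtain ⟨⟨i, j⟩, hij⟩ := hf.2 ⟨z, hzP⟩
  have hzij : u ^ i.val * a ^ j.val = z := congrArg Subtype.val hij
  have hj : ¬ 3 ∣ j.val := fun h => hznu (by
    have := j.2
    rw [← hzij, show j.val = 0 by omega, pow_zero, mul_one]
    exact pow_mem (mem_zpowers u) _)
  have hi : ¬ 3 ∣ i.val := fun h => hzni r hr2 (by
    have := i.2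
    rw [← hzij, show i.val = 0 by omega, pow_zero, one_mul]
    exact hra.pow_left _)
  obtain ⟨u', hu'⟩ : ∃ x, x = u ^ i.val := ⟨_, rfl⟩
  obtain ⟨a', ha'⟩ : ∃ x, x = a ^ j.val := ⟨_, rfl⟩
  have hu'c : IsConj u u' := hu' ▸ B.conj_pow_u hi
  have ho_u' : orderOf u' = 3 := by
    rw [hu', orderOf_pow, B.ou, Nat.coprime_iff_gcd_eq_one.1
      ((Nat.prime_three.coprime_iff_not_dvd).2 hi), Nat.div_one]
  have ho_a' : orderOf a' = 3 := by
    rw [ha', orderOf_pow, hoa, Nat.coprime_iff_gcd_eq_one.1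
      ((Nat.prime_three.coprime_iff_not_dvd).2 hj), Nat.div_one]
  have hcua : Commute u' a' := by rw [hu', ha']; exact hua.pow_pow _ _
  -- every element of `P` in the coordinates of `u'`, `a'`
  have hcoord : ∀ x ∈ P, ∃ m n : ℕ, x = u' ^ m * a' ^ n := by
    intro x hx
    obtain ⟨⟨k, l⟩, hkl⟩ := hf.2 ⟨x, hx⟩
    refine ⟨i.val * k.val, j.val * l.val, ?_⟩
    rw [hu', ha', ← pow_mul, ← pow_mul, ← pow_mod_orderOf u, B.ou, ← pow_mod_orderOf a, hoa,
      ← show u ^ k.val * a ^ l.val = x from congrArg Subtype.val hkl]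
    have key : ∀ i k : Fin 3, ¬ 3 ∣ i.val → i.val * (i.val * k.val) % 3 = k.val := by decide
    rw [key i k hi, key j l hj]
  -- an element of `R` outside `P` sends `u'` to a power of `a'`
  have hmove : ∀ p ∈ (R : Subgroup G), p ∉ P → ∃ n : ℕ, p * u' * p⁻¹ = a' ^ n := by
    intro p hp hpP
    have hPR : P ≤ (R : Subgroup G) := by
      intro x hx
      obtain ⟨⟨k, l⟩, hkl⟩ := hf.2 ⟨x, hx⟩
      have hzR' : u ^ i.val * a ^ j.val ∈ (R : Subgroup G) := hzij ▸ hzR
      have haR : a ^ j.val ∈ (R : Subgroup G) := by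
        have := mul_mem (inv_mem (pow_mem huR i.val)) hzR'
        rwa [inv_mul_cancel_left] at this
      have haR' : a ∈ (R : Subgroup G) := by
        have h2 := pow_mem haR j.val
        rw [← pow_mul, ← pow_mod_orderOf, hoa] at h2
        have key : ∀ i : Fin 3, ¬ 3 ∣ i.val → i.val * i.val % 3 = 1 := by decide
        rwa [key j hj, pow_one] at h2
      rw [← show u ^ k.val * a ^ l.val = x from congrArg Subtype.val hkl]
      exact mul_mem (pow_mem huR _) (pow_mem haR' _)
    have hu'P : u' ∈ P := hu' ▸ pow_mem huP _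
    obtain ⟨m, n, hmn⟩ := hcoord _ (normal_of_index_three hPR hR27 hP9 hp hu'P)
    have hm : p * u' * p⁻¹ = u' ^ (m % 3) * a' ^ (n % 3) := by
      rw [hmn]
      congr 1
      · rw [← ho_u', pow_mod_orderOf]
      · rw [← ho_a', pow_mod_orderOf]
    by_cases hm0 : m % 3 = 0
    · exact ⟨n % 3, by rw [hm, hm0, pow_zero, one_mul]⟩
    exfalso
    have hconj : IsConj u (p * u' * p⁻¹) := hu'c.trans (isConj_iff.2 ⟨p, rfl⟩)
    by_cases hn0 : n % 3 = 0
    · rw [hn0, pow_zero, mul_one] at hm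
      have h := commute_of_three
        (orderOf_dvd_iff_pow_eq_one.1 (hR27 ▸ orderOf_dvd_natCard _ hp)) ho_u' hm
      refine hpP (hRP p hp (mem_centralizer_singleton_iff.2 ?_))
      have key : ∀ i : Fin 3, ¬ 3 ∣ i.val → i.val * i.val % 3 = 1 := by decide
      have hu_eq : u' ^ i.val = u := by
        rw [hu', ← pow_mul, ← pow_mod_orderOf, B.ou, key i hi, pow_one]
      rw [← hu_eq]
      exact (h.pow_right _).eq
    rw [hm] at hconj
    by_cases hmn' : m % 3 = n % 3
    · rw [← hmn', ← hcua.mul_pow, hu', ha', hzij] at hconj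
      exact hncent _ (fun r hr => (hzcomm r hr).pow_right _) hconj
    · -- the conjugate of `z` under `t`
      have h2 : n % 3 = 2 * (m % 3) % 3 := by
        rcases (show m % 3 = 1 ∨ m % 3 = 2 by omega) with h | h <;>
          rcases (show n % 3 = 1 ∨ n % 3 = 2 by omega) with h' | h' <;> simp_all
      have htz : t * z * t⁻¹ = u' * a'⁻¹ := by
        rw [← hzij, show t * (u ^ i.val * a ^ j.val) * t⁻¹ =
          t * u ^ i.val * t⁻¹ * (t * a ^ j.val * t⁻¹) by group, ← conj_pow, ← conj_pow, htu, haI.2,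
          inv_pow, hu', ha']
      have he : u' ^ (m % 3) * a' ^ (n % 3) = (t * z * t⁻¹) ^ (m % 3) := by
        rw [htz, hcua.inv_right.mul_pow, h2]
        congr 1
        have hai : a'⁻¹ = a' ^ 2 := inv_eq_of_mul_eq_one_right (by
          have h := pow_orderOf_eq_one a'
          rw [ho_a'] at h
          rw [← pow_succ']
          exact h)
        rw [hai, ← pow_mul]
        have h := pow_mod_orderOf a' (2 * (m % 3))
        rw [ho_a'] at h
        exact h
      rw [he, conj_pow] at hconj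
      refine hncent (z ^ (m % 3)) (fun r hr => (hzcomm r hr).pow_right _)
        (hconj.trans (isConj_iff.2 ⟨t⁻¹, by group⟩))
  obtain ⟨p, hp, hpP⟩ : ∃ p ∈ (R : Subgroup G), p ∉ P := by
    by_contra h
    push Not at h
    have := Nat.le_of_dvd Nat.card_pos (card_dvd_of_le h)
    rw [hR27, hP9] at this
    omega
  obtain ⟨n, hn⟩ := hmove p hp hpP
  obtain ⟨k, hk⟩ := hmove (p ^ 2) (pow_mem hp 2) fun h => hpP (by
    have h27 := orderOf_dvd_iff_pow_eq_one.1 (hR27 ▸ orderOf_dvd_natCard _ hp)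
    rw [show p = (p ^ 2) ^ 14 by rw [← pow_mul, pow_succ, h27, one_mul]]
    exact pow_mem h 14)
  have hn0 : n % 3 ≠ 0 := fun h => by
    rw [← pow_mod_orderOf, ho_a', h, pow_zero, conj_eq_one_iff] at hn
    rw [hn, orderOf_one] at ho_u'
    omega
  have hpa : p * a' * p⁻¹ = a' ^ (k * n) := by
    have h1 : p * a' ^ n * p⁻¹ = a' ^ k := by
      rw [← hn, ← hk, sq]; group
    have h2 := conj_pow_of_eq h1 n
    rw [← pow_mul, ← pow_mul, ← pow_mod_orderOf a' (n * n), ho_a'] at h2
    rwa [show n * n % 3 = 1 by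
      rcases (show n % 3 = 1 ∨ n % 3 = 2 by omega) with h | h <;> simp [Nat.mul_mod, h],
      pow_one] at h2
  have hca := commute_of_three (orderOf_dvd_iff_pow_eq_one.1 (hR27 ▸ orderOf_dvd_natCard _ hp))
    ho_a' hpa
  have hcu : Commute p u' := by
    have hz' : u' = z * a'⁻¹ := eq_mul_inv_iff_mul_eq.2 (by rw [hu', ha', hzij])
    rw [hz']
    exact (hzcomm p hp).mul_right hca.inv_right
  refine hanu ?_
  have h1 : u' = a' ^ n := by rw [← hn, hcu.eq, mul_inv_cancel_right]
  have h2 : a' ∈ zpowers u' := by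
    rw [h1]
    refine mem_zpowers_pow_iff.2 ?_
    rw [ho_a']
    exact ((Nat.prime_three.coprime_iff_not_dvd).2 (by omega)).symm
  have h3 : a ∈ zpowers a' := by
    rw [ha']
    refine mem_zpowers_pow_iff.2 ?_
    rw [hoa]
    exact ((Nat.prime_three.coprime_iff_not_dvd).2 hj).symm
  exact zpowers_le.2 (hu' ▸ pow_mem (mem_zpowers u) _) (zpowers_le.2 h2 h3)

end Base

end CfsgLib.Small.L33
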